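import Groth.Agent.LocCohBase.Nonvanishing
import Groth.Agent.LocCohBase.CdLocal
import Groth.Agent.LocCohBase.Torsion
import Groth.Agent.LocCohTransform.Independence
import Groth.Agent.Matlis.Criterion
import Groth.Agent.Gorenstein.Regular

/-!
The top local cohomology of a local ring of finite self-injective dimension is an injective hull
of the residue field, and the lower ones vanish.
-/

set_option autoImplicit false
universe u

open CategoryTheory IsLocalRing InjHull GrothGoren Groth.LocCohBase

namespace Groth.LocDual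

variable {A : Type u} [CommRing A] [IsLocalRing A]

/-- A local ring which is injective over itself and has zero depth is a hull of its residue field. -/
theorem exists_hull_self [IsNoetherianRing A] (hA : Module.Injective A A)
    (h : ∀ x ∈ maximalIdeal A, ¬ IsSMulRegular A x) :
    ∃ f : ResidueField A →ₗ[A] A, IsInjectiveHull f := by
  obtain ⟨ι, hι⟩ := exists_residueField_embedding h
  obtain ⟨E, _, _, g, hg⟩ := GrothMatlis.exists_hull A (ResidueField A)
  obtain ⟨α, hα, hαg⟩ := GrothMatlis.hull_embeds hg hι hA
  obtain ⟨p, hp⟩ := (GrothMatlis.baer hg.isInjective).extension_property α hα LinearMap.id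
  have hp' : ∀ e, p (α e) = e := fun e => LinearMap.congr_fun hp e
  -- `α (p 1)` is an idempotent
  set c : A := α (p 1) with hc
  have hmul : ∀ a : A, α (p a) = a * c := fun a => by
    conv_lhs => rw [show a = a • (1 : A) by rw [smul_eq_mul, mul_one]]
    rw [map_smul, map_smul, ← hc, smul_eq_mul]
  have hid : IsIdempotentElem c := (hmul c).symm.trans (by rw [hc, hp'])
  have hne : c ≠ 0 := fun h0 => by
    have h1 : ι 1 = 0 := by
      rw [← LinearMap.congr_fun hαg 1, LinearMap.comp_apply, ← hp' (g 1), hmul, h0, mul_zero]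
    exact one_ne_zero (hι (h1.trans (map_zero ι).symm))
  have h1 : c = 1 := by
    rcases IsLocalRing.isUnit_or_isUnit_one_sub_self c with hu | hu
    · exact hu.mul_left_cancel (hid.eq.trans (mul_one c).symm)
    · refine absurd ?_ hne
      have : (1 - c) * c = 0 := by rw [sub_mul, one_mul, hid.eq, sub_self]
      exact (IsUnit.mul_right_eq_zero hu).1 this
  have hsurj : Function.Surjective α := fun a => ⟨p a, by rw [hmul, h1, mul_one]⟩
  exact ⟨_, GrothMatlis.hull_transport hg (LinearEquiv.ofBijective α ⟨hα, hsurj⟩)⟩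

/-- In finite self-injective dimension `d = dim A`, the local cohomology of `A` vanishes below
`d` and is an injective hull of the residue field in degree `d`. -/
theorem exists_hull_H_top : ∀ (d : ℕ) (A : Type u) [CommRing A] [IsLocalRing A]
    [IsNoetherianRing A], (∃ n, InjLT A A n) → ringKrullDim A = d →
    (∀ i, i < d → Subsingleton (LocCoh.H (maximalIdeal A) i A)) ∧
      ∃ f : ResidueField A →ₗ[A] LocCoh.H (maximalIdeal A) d A, IsInjectiveHull f := by
  intro d
  induction d with
  | zero =>
    intro A _ _ _ hA hd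
    refine ⟨fun i hi => absurd hi (Nat.not_lt_zero i), ?_⟩
    obtain ⟨d', hd', hd1, -, hdep⟩ := exists_dim A hA
    obtain rfl : d' = 0 := by rw [hd] at hd'; exact_mod_cast hd'.symm
    have hreg : ∀ x ∈ maximalIdeal A, ¬ IsSMulRegular A x := fun x hx hr => by
      have hinj := injLT_one_iff.1 hd1
      exact (IsLocalRing.mem_maximalIdeal x).1 hx (isUnit_of_isSMulRegular_of_injective hinj hr)
    obtain ⟨f, hf⟩ := exists_hull_self (injLT_one_iff.1 hd1) hreg
    have htop : DRing.torsionSub (maximalIdeal A) A = ⊤ :=
      torsionSub_eq_top (GrothMatlis.hull_isPowerTorsion hf)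
    exact ⟨_, GrothMatlis.hull_transport hf
      (((h0Equiv (maximalIdeal A) A).trans
        (LinearEquiv.ofTop _ htop)).symm)⟩
  | succ d ih =>
    intro A _ _ _ hA hd
    obtain ⟨d', hd', -, -, hdep⟩ := exists_dim A hA
    obtain rfl : d' = d + 1 := by rw [hd] at hd'; exact_mod_cast hd'.symm
    set m := maximalIdeal A with hm
    have htop : m • (⊤ : Submodule A A) ≠ ⊤ := by
      simpa using (maximalIdeal.isMaximal A).ne_top
    obtain ⟨rs, hlen, hrs, hmem⟩ :=
      (le_idealDepth_iff_exists _ htop (d + 1)).1 (le_of_eq hdep.symm)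
    obtain ⟨x, rs', rfl⟩ : ∃ x rs', rs = x :: rs' := by
      cases rs with
      | nil => simp at hlen
      | cons x rs' => exact ⟨x, rs', rfl⟩
    have hx : IsSMulRegular A x := ((RingTheory.Sequence.isWeaklyRegular_cons_iff A x rs').1 hrs).1
    have hxm : x ∈ m := hmem x (List.mem_cons_self ..)
    set b : Ideal A := Ideal.span {x} with hb
    have hble : b ≤ m := (Ideal.span_singleton_le_iff_mem _).2 hxm
    haveI : Nontrivial (A ⧸ b) := Ideal.Quotient.nontrivial_iff.2
      (ne_top_of_le_ne_top (maximalIdeal.isMaximal A).ne_top hble)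
    haveI : IsLocalRing (A ⧸ b) :=
      .of_surjective' (Ideal.Quotient.mk b) Ideal.Quotient.mk_surjective
    have hmB : m.map (algebraMap A (A ⧸ b)) = maximalIdeal (A ⧸ b) :=
      ((IsLocalRing.map_maximalIdeal_of_surjective _ Ideal.Quotient.mk_surjective))
    have hdB : ringKrullDim (A ⧸ b) = d := by
      have := ringKrullDim_quotient_span_singleton_succ_eq_ringKrullDim hx hxm
      rw [hd] at this
      exact (ENat.WithBot.add_natCast_cancel (c := 1)).1 (by simpa using this)
    obtain ⟨hvanB, fB, hfB⟩ := ih (A ⧸ b) ((exists_injLT_quotient_iff A hxm hx).1 hA) hdB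
    -- the sequence `0 → A → A → A/x → 0`
    set f₁ : A →ₗ[A] A := x • LinearMap.id with hf₁
    have hex : Function.Exact f₁ (Submodule.mkQ b) := by
      intro a
      rw [Submodule.mkQ_apply, Submodule.Quotient.mk_eq_zero, hb, Ideal.mem_span_singleton']
      exact ⟨fun ⟨c, hc⟩ => ⟨c, by rw [← hc, mul_comm]; rfl⟩,
        fun ⟨c, hc⟩ => ⟨c, by rw [← hc, mul_comm]; rfl⟩⟩
    have hS := seqCx_shortExact f₁ (Submodule.mkQ b) hex (fun p q h => hx h)
      (Submodule.mkQ_surjective b)
    have hsm : ∀ i (h : LocCoh.H m i A),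
        (localCohomology m i).map (seqCx f₁ (Submodule.mkQ b) hex).f h = x • h :=
      fun i h => (smul_eq_map i (ModuleCat.of A A) x h).symm
    have hres := fun i =>
      Groth.LocCohTransform.exists_restrict_addEquiv (I := m) (R' := A ⧸ b) (A ⧸ b) i
    rw [hmB] at hres
    have hB : ∀ i, i < d → Subsingleton (LocCoh.H m i (A ⧸ b)) := fun i hi => by
      obtain ⟨φ, -⟩ := hres i
      haveI := hvanB i hi
      exact φ.toEquiv.subsingleton_congr.1 inferInstance
    have htors : ∀ i, LocCoh.IsPowerTorsion m (LocCoh.H m i A) := fun i => isPowerTorsion_H m i _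
    have hvan : ∀ i, i < d + 1 → Subsingleton (LocCoh.H m i A) := by
      intro i hi
      have hinj : ∀ h : LocCoh.H m i A, x • h = 0 → h = 0 := by
        intro h h0
        rw [← hsm] at h0
        cases i with
        | zero => exact map_f_injective_zero hS (h0.trans (map_zero _).symm)
        | succ i =>
          obtain ⟨y, rfl⟩ := (exact₁ hS i h).1 h0
          haveI := hB i (by omega)
          exact (congrArg _ (Subsingleton.elim (y : LocCoh.H m i (A ⧸ b)) 0)).trans (map_zero _)
      refine subsingleton_of_forall_eq 0 fun h => ?_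
      obtain ⟨n, hn⟩ := htors i h
      have hpow : ∀ k : ℕ, x ^ k • h = 0 → h = 0 := by
        intro k
        induction k with
        | zero => intro hk; rwa [pow_zero, one_smul] at hk
        | succ k ihk =>
          intro hk
          exact ihk (hinj _ (by rw [← mul_smul, ← pow_succ', hk]))
      exact hpow n (hn _ (Ideal.pow_mem_pow hxm n))
    refine ⟨hvan, ?_⟩
    set H := LocCoh.H m (d + 1) A
    have hdiv : Function.Surjective (fun h : H => x • h) := by
      intro h
      haveI : Subsingleton (LocCoh.H m (d + 1) (A ⧸ b)) := by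
        obtain ⟨φ, -⟩ := hres (d + 1)
        haveI := cdLE_of_dim_le (maximalIdeal (A ⧸ b)) d (le_of_eq hdB) (A ⧸ b) (d + 1)
          (Nat.lt_succ_self d)
        exact φ.toEquiv.subsingleton_congr.1 inferInstance
      obtain ⟨h', rfl⟩ := (exact₂ hS (d + 1) h).1 (Subsingleton.elim _ _)
      exact ⟨h', (hsm _ h').symm⟩
    -- the `x`-torsion of `H` is the top local cohomology of `A/x`
    set T : Submodule A H := LocCoh.torsionBy b H with hT
    let dlt : LocCoh.H m d (A ⧸ b) →ₗ[A] H := δ hS d
    have hδinj : Function.Injective dlt := by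
      rw [injective_iff_map_eq_zero]
      intro y hy
      obtain ⟨z, rfl⟩ := (exact₃ hS d y).1 hy
      haveI := hvan d (Nat.lt_succ_self d)
      rw [Subsingleton.elim (z : LocCoh.H m d A) 0, map_zero]
    have hδmem : ∀ y, dlt y ∈ T := fun y => (mem_torsion_span_iff x).2 <| by
      rw [← hsm]; exact (exact₁ hS d).apply_apply_eq_zero y
    obtain ⟨φ, hφ⟩ := hres d
    let η₀ : LocCoh.H (maximalIdeal (A ⧸ b)) d (A ⧸ b) →ₗ[A ⧸ b] T :=
      { toFun := fun w => ⟨dlt (φ w), hδmem _⟩
        map_add' := fun v w => Subtype.ext (by simp)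
        map_smul' := fun c w => by
          obtain ⟨a, rfl⟩ := Ideal.Quotient.mk_surjective c
          refine Subtype.ext ?_
          show dlt (φ (Ideal.Quotient.mk b a • w)) = a • dlt (φ w)
          rw [← Ideal.Quotient.algebraMap_eq, hφ, map_smul] }
    let η : LocCoh.H (maximalIdeal (A ⧸ b)) d (A ⧸ b) ≃ₗ[A ⧸ b] T := LinearEquiv.ofBijective η₀
      ⟨fun v w h => φ.injective (hδinj (congrArg Subtype.val h)), fun t => by
        obtain ⟨y, hy⟩ := (exact₁ hS d (t : H)).1 <| by
          rw [hsm]; exact (mem_torsion_span_iff x).1 t.2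
        exact ⟨φ.symm y, Subtype.ext (show dlt (φ (φ.symm y)) = _ by
          rw [AddEquiv.apply_symm_apply]; exact hy)⟩⟩
    set z₀ : H := (η (fB 1) : H) with hz₀
    -- the socle
    have hsoc : ∀ z : H, (∀ a ∈ m, a • z = 0) → ∃ a : A, z = a • z₀ := by
      intro z hz
      have hzT : z ∈ T := (mem_torsion_span_iff x).2 (hz x hxm)
      set w := η.symm ⟨z, hzT⟩ with hw
      have hwsoc : w ∈ LocCoh.torsionBy (maximalIdeal (A ⧸ b)) _ := by
        rw [Submodule.mem_torsionBySet_iff]
        rintro ⟨c, hc⟩
        obtain ⟨a, rfl⟩ := Ideal.Quotient.mk_surjective c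
        show Ideal.Quotient.mk b a • w = 0
        rw [hw, ← map_smul, show Ideal.Quotient.mk b a • (⟨z, hzT⟩ : T) = 0 from
          Subtype.ext (hz a (by
            by_contra hau
            exact (IsLocalRing.mem_maximalIdeal _).1 hc
              ((IsLocalRing.notMem_maximalIdeal.1 hau).map _))), map_zero]
      rw [GrothMatlis.socle_eq hfB.toIsEssentialInj] at hwsoc
      obtain ⟨κ, hκ⟩ := hwsoc
      obtain ⟨c, rfl⟩ := IsLocalRing.residue_surjective κ
      obtain ⟨a, rfl⟩ := Ideal.Quotient.mk_surjective c
      refine ⟨a, ?_⟩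
      have h1 : w = Ideal.Quotient.mk b a • fB 1 := by
        rw [← hκ, ← map_smul]
        congr 1
        exact (mul_one _).symm
      have h2 : (⟨z, hzT⟩ : T) = Ideal.Quotient.mk b a • η (fB 1) := by
        rw [← map_smul, ← h1, hw, LinearEquiv.apply_symm_apply]
      exact congrArg Subtype.val h2
    have hz₀0 : ∀ a ∈ m, a • z₀ = 0 := by
      intro a ha
      have hak : Ideal.Quotient.mk b a • (1 : ResidueField (A ⧸ b)) = 0 :=
        GrothMatlis.smul_residueField_eq_zero (by
          rw [← hmB]; exact Ideal.mem_map_of_mem _ ha) _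
      have h3 : Ideal.Quotient.mk b a • η (fB 1) = 0 := by
        rw [← map_smul, ← map_smul, hak, map_zero, map_zero]
      exact congrArg Subtype.val h3
    let ψ : ResidueField A →ₗ[A] H :=
      Submodule.liftQ (maximalIdeal A) (LinearMap.toSpanSingleton A H z₀)
        fun a ha => hz₀0 a ha
    have hψ1 : ∀ a : A, ψ (Submodule.Quotient.mk a) = a • z₀ := fun a => rfl
    have hψinj : Function.Injective ψ := by
      haveI := GrothMatlis.isSimpleModule_residueField A
      refine (LinearMap.injective_or_eq_zero ψ).resolve_right fun h0 => ?_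
      have h4 : z₀ = 0 := by
        have := hψ1 1
        rw [h0, one_smul, LinearMap.zero_apply] at this
        exact this.symm
      exact one_ne_zero (hfB.injective ((η.map_eq_zero_iff.1 (Subtype.ext h4)).trans
        (map_zero fB).symm))
    have hψess : IsEssentialInj ψ :=
      GrothMatlis.essential_of_socle_le hψinj (htors (d + 1)) fun z hz => by
        obtain ⟨a, rfl⟩ := hsoc z fun a ha => (Submodule.mem_torsionBySet_iff _ _).1 hz ⟨a, ha⟩
        exact ⟨Submodule.Quotient.mk a, hψ1 a⟩
    obtain ⟨E, _, _, f, hf⟩ := GrothMatlis.exists_hull A (ResidueField A)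
    obtain ⟨g, hg⟩ := hf.isInjective.out ψ hψess.injective f
    have hginj : Function.Injective g := GrothMatlis.IsEssentialInj.injective_of_comp hψess
      (by rw [show g ∘ₗ ψ = f from LinearMap.ext hg]; exact hf.injective)
    -- `g` is onto the `x`-torsion
    let gT : T →ₗ[A ⧸ b] LocCoh.torsionBy b E :=
      { toFun := fun t => torsionMap b g t
        map_add' := map_add _
        map_smul' := fun c t => by
          obtain ⟨a, rfl⟩ := Ideal.Quotient.mk_surjective c
          exact Subtype.ext (map_smul g a (t : H)) }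
    have hgTinj : Function.Injective gT := fun s t h =>
      Subtype.ext (hginj (congrArg Subtype.val h))
    have hTinj : Module.Injective (A ⧸ b) T :=
      GrothMatlis.injective_of_equiv hfB.isInjective η.symm
    have hgTsurj : Function.Surjective gT := by
      obtain ⟨Q, hQ⟩ := GrothMatlis.exists_isCompl_of_injective hTinj gT hgTinj
      have hQ0 : Q = ⊥ := by
        rw [Submodule.eq_bot_iff]
        intro q hq
        by_contra hq0
        obtain ⟨r, ⟨κ, hκ⟩, hr0⟩ := GrothMatlis.IsEssentialInj.exists_smul hf.toIsEssentialInj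
          (x := (q : E)) fun h => hq0 (Subtype.ext h)
        have hrT : ψ κ ∈ T := (mem_torsion_span_iff x).2 <| by
          rw [← map_smul, GrothMatlis.smul_residueField_eq_zero hxm, map_zero]
        have h5 : gT ⟨ψ κ, hrT⟩ = Ideal.Quotient.mk b r • q :=
          Subtype.ext ((hg κ).trans hκ)
        have h6 : Ideal.Quotient.mk b r • q ∈ LinearMap.range gT ⊓ Q :=
          ⟨⟨_, h5⟩, Q.smul_mem _ hq⟩
        rw [hQ.inf_eq_bot, Submodule.mem_bot] at h6
        exact hr0 (congrArg Subtype.val h6)
      intro e
      have := hQ.sup_eq_top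
      rw [hQ0, sup_bot_eq] at this
      exact LinearMap.range_eq_top.1 this e
    have hgsurj : Function.Surjective g := by
      have hpow : ∀ (k : ℕ) (e : E), x ^ k • e = 0 → e ∈ LinearMap.range g := by
        intro k
        induction k with
        | zero => intro e he; rw [pow_zero, one_smul] at he; exact he ▸ zero_mem _
        | succ k ihk =>
          intro e he
          obtain ⟨h, hh⟩ := ihk (x • e) (by rwa [← mul_smul, ← pow_succ])
          obtain ⟨h', rfl⟩ := hdiv h
          obtain ⟨t, ht⟩ := hgTsurj ⟨e - g h', (mem_torsion_span_iff x).2 (by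
            rw [smul_sub, ← map_smul]; exact sub_eq_zero.2 hh.symm)⟩
          exact ⟨h' + t, by rw [map_add, show g (t : H) = e - g h' from congrArg Subtype.val ht,
            add_sub_cancel]⟩
      intro e
      obtain ⟨n, hn⟩ := GrothMatlis.hull_isPowerTorsion hf e
      exact hpow n e (hn _ (Ideal.pow_mem_pow hxm n))
    exact ⟨_, GrothMatlis.hull_transport hf (LinearEquiv.ofBijective g ⟨hginj, hgsurj⟩).symm⟩

end Groth.LocDual
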