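import Groth.Agent.Calg2.CompleteStructure
import Groth.Agent.Calg6.PowerSeries

/-!
A complete Noetherian local ring is a quotient of a regular local ring.
-/

set_option autoImplicit false
universe u

open IsLocalRing MvPowerSeries

namespace Groth.LocDual

/-- Power series over a regular local ring form a regular local ring. -/
theorem isRegularLocalRing_mvPowerSeries (Λ : Type u) [CommRing Λ] [IsRegularLocalRing Λ] :
    ∀ d : ℕ, IsRegularLocalRing (MvPowerSeries (Fin d) Λ) := by
  classical
  intro d
  obtain ⟨G, hGc, hG⟩ : ∃ G : Finset Λ, G.card ≤ (maximalIdeal Λ).spanFinrank ∧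
      Ideal.span (G : Set Λ) = maximalIdeal Λ := by
    have hfin := Submodule.FG.finite_generators (IsNoetherian.noetherian (maximalIdeal Λ))
    refine ⟨hfin.toFinset, le_of_eq ?_, ?_⟩
    · rw [← Set.ncard_eq_toFinset_card _ hfin,
        Submodule.FG.generators_ncard (IsNoetherian.noetherian (maximalIdeal Λ))]
    · rw [Set.Finite.coe_toFinset]
      exact Submodule.span_generators _
  -- the maximal ideal is generated by the variables and the parameters of `Λ`
  let s : Finset (MvPowerSeries (Fin d) Λ) := (Finset.univ.image X) ∪ G.image C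
  have hspan : maximalIdeal (MvPowerSeries (Fin d) Λ) = Ideal.span (s : Set (MvPowerSeries (Fin d) Λ)) := by
    refine le_antisymm (fun g hg => ?_) (Ideal.span_le.2 fun g hg => ?_)
    · have hcc : constantCoeff g ∈ maximalIdeal Λ := fun hu => hg (isUnit_iff_constantCoeff.2 hu)
      rw [show g = (g - C (constantCoeff g)) + C (constantCoeff g) by ring]
      refine Ideal.add_mem _ ?_ ?_
      · have h0 : g - C (constantCoeff g) ∈ Groth.SGA7.PS.varIdeal (Fin d) Λ :=
          (Groth.SGA7.PS.mem_varIdeal_iff _).2 (by rw [map_sub, constantCoeff_C, sub_self])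
        refine Ideal.span_mono ?_ h0
        rintro _ ⟨i, rfl⟩
        simp [s]
      · rw [← hG] at hcc
        have h1 := Ideal.mem_map_of_mem (C (σ := Fin d) (R := Λ)) hcc
        rw [Ideal.map_span] at h1
        refine Ideal.span_mono ?_ h1
        rintro _ ⟨x, hx, rfl⟩
        have hx' : x ∈ G := hx
        exact Finset.mem_coe.2 (Finset.mem_union_right _ (Finset.mem_image_of_mem _ hx'))
    · rw [SetLike.mem_coe, mem_maximalIdeal, mem_nonunits_iff, isUnit_iff_constantCoeff]
      rcases Finset.mem_union.1 (Finset.mem_coe.1 hg) with h | h <;>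
        obtain ⟨x, hx, rfl⟩ := Finset.mem_image.1 h
      · rw [constantCoeff_X]
        exact not_isUnit_zero
      · rw [constantCoeff_C]
        have hxm : x ∈ maximalIdeal Λ := hG ▸ Ideal.subset_span (Finset.mem_coe.2 hx)
        exact hxm
  have hdim : ∀ d : ℕ, (((maximalIdeal Λ).spanFinrank + d : ℕ) : WithBot ℕ∞) ≤
      ringKrullDim (MvPowerSeries (Fin d) Λ) := by
    intro d
    induction d with
    | zero =>
      rw [Nat.add_zero]
      refine (le_of_eq (IsRegularLocalRing.spanFinrank_maximalIdeal (R := Λ))).trans ?_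
      exact le_of_eq (ringKrullDim_eq_of_ringEquiv
        (RingEquiv.ofBijective (constantCoeff : MvPowerSeries (Fin 0) Λ →+* Λ)
          ⟨fun a b hab => MvPowerSeries.ext fun e => by
            rw [show e = 0 from Subsingleton.elim _ _, coeff_zero_eq_constantCoeff_apply,
              coeff_zero_eq_constantCoeff_apply, hab], fun l => ⟨C l, constantCoeff_C l⟩⟩)).symm
    | succ d ih =>
      rw [ringKrullDim_eq_of_ringEquiv (finSuccEquiv Λ d).toRingEquiv]
      refine le_trans ?_ ringKrullDim_succ_le_ringKrullDim_powerseries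
      rw [← Nat.add_assoc, Nat.cast_succ]
      exact add_le_add ih le_rfl
  refine IsRegularLocalRing.of_spanFinrank_maximalIdeal_le _ (le_trans ?_ (hdim d))
  rw [hspan]
  have h1 := Submodule.spanFinrank_span_le_ncard_of_finite (R := MvPowerSeries (Fin d) Λ)
    (Finset.finite_toSet s)
  rw [Set.ncard_coe_finset] at h1
  have h2 : s.card ≤ (maximalIdeal Λ).spanFinrank + d := by
    refine (Finset.card_union_le _ _).trans ?_
    have h3 := (Finset.card_image_le (s := (Finset.univ : Finset (Fin d)))
      (f := (X : Fin d → MvPowerSeries (Fin d) Λ)))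
    have h4 := (Finset.card_image_le (s := G) (f := (C : Λ → MvPowerSeries (Fin d) Λ)))
    simp only [Finset.card_univ, Fintype.card_fin] at h3
    omega
  exact_mod_cast h1.trans h2

/-- A complete Noetherian local ring is a quotient of a regular local ring. -/
theorem exists_regularLocal_surjection (R : Type u) [CommRing R] [IsLocalRing R]
    [IsNoetherianRing R] [IsAdicComplete (maximalIdeal R) R] :
    ∃ (S : Type u) (_ : CommRing S) (_ : IsRegularLocalRing S) (π : S →+* R),
      Function.Surjective π := by
  classical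
  obtain ⟨Λ, _, ι, hι, hcase⟩ := Calg2.CompleteStructure.exists_coefficient R
  obtain ⟨s, hs⟩ := IsNoetherian.noetherian (maximalIdeal R)
  let a : Fin s.card → R := fun i => (s.equivFin.symm i : R)
  have hspan : Ideal.span (Set.range a) = maximalIdeal R := by
    refine Eq.trans (congrArg Ideal.span ?_) hs
    ext x
    exact ⟨fun ⟨i, hi⟩ => hi ▸ (s.equivFin.symm i).2, fun hx => ⟨s.equivFin ⟨x, hx⟩, by simp [a]⟩⟩
  have ha : ∀ i, a i ∈ maximalIdeal R := fun i => hspan ▸ Ideal.subset_span ⟨i, rfl⟩
  obtain ⟨hreg⟩ : Nonempty (IsRegularLocalRing Λ) := by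
    rcases hcase with hF | ⟨⟨hdom, hdvr, -⟩, -⟩
    · letI := hF.toField
      exact ⟨inferInstance⟩
    · exact ⟨inferInstance⟩
  haveI := hreg
  exact ⟨MvPowerSeries (Fin s.card) Λ, inferInstance, isRegularLocalRing_mvPowerSeries Λ s.card,
    Calg2.CompleteStructure.ev ι a ha, Calg2.CompleteStructure.surjective_ev ι hι a ha hspan⟩

end Groth.LocDual
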