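import Groth.Agent.LocDual.Duality
import Mathlib.RingTheory.LocalProperties.Projective
import Mathlib.Algebra.Module.FinitePresentation

/-!
Vanishing of `Ext^j(M,A)` after localization at a prime.
-/

set_option autoImplicit false
universe u

open CategoryTheory IsLocalRing GrothGoren

namespace Groth.LocDual

variable {A : Type u} [CommRing A]

lemma localized_subsingleton_congr {X Y : Type u} [AddCommGroup X] [Module A X] [AddCommGroup Y]
    [Module A Y] (S : Submonoid A) (e : X ≃ₗ[A] Y) :
    Subsingleton (LocalizedModule S X) ↔ Subsingleton (LocalizedModule S Y) := by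
  rw [LocalizedModule.subsingleton_iff, LocalizedModule.subsingleton_iff]
  refine ⟨fun h y => ?_, fun h x => ?_⟩
  · obtain ⟨r, hr, h0⟩ := h (e.symm y)
    exact ⟨r, hr, e.symm.injective (by rw [map_smul, h0, map_zero])⟩
  · obtain ⟨r, hr, h0⟩ := h (e x)
    exact ⟨r, hr, e.injective (by rw [map_smul, h0, map_zero])⟩

variable (P : Ideal A) [P.IsPrime]

/-- Localization of homomorphisms into the ring. -/
noncomputable def locHom (M : Type u) [AddCommGroup M] [Module A M] :
    (M →ₗ[A] A) →ₗ[A]
      (LocalizedModule P.primeCompl M →ₗ[Localization.AtPrime P] Localization.AtPrime P) :=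
  IsLocalizedModule.mapExtendScalars P.primeCompl (LocalizedModule.mkLinearMap P.primeCompl M)
    (Algebra.linearMap A (Localization.AtPrime P)) (Localization.AtPrime P)

lemma locHom_apply (M : Type u) [AddCommGroup M] [Module A M] (φ : M →ₗ[A] A) (m : M) :
    locHom P M φ (LocalizedModule.mkLinearMap P.primeCompl M m) =
      algebraMap A (Localization.AtPrime P) (φ m) :=
  IsLocalizedModule.map_apply P.primeCompl _ (Algebra.linearMap A (Localization.AtPrime P)) φ m

lemma isLocalizedModule_locHom [IsNoetherianRing A] (M : Type u) [AddCommGroup M] [Module A M]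
    [Module.Finite A M] : IsLocalizedModule P.primeCompl (locHom P M) :=
  haveI := Module.finitePresentation_of_finite A M
  Module.FinitePresentation.isLocalizedModule_mapExtendScalars _ _ _ _

lemma locHom_comp {M N : Type u} [AddCommGroup M] [Module A M] [AddCommGroup N] [Module A N]
    (g : M →ₗ[A] N) (φ : N →ₗ[A] A) :
    locHom P M (φ ∘ₗ g) = locHom P N φ ∘ₗ LocalizedModule.map P.primeCompl g := by
  refine LinearMap.restrictScalars_injective A ?_
  refine IsLocalizedModule.ext P.primeCompl (LocalizedModule.mkLinearMap P.primeCompl M)
    (IsLocalizedModule.map_units (Algebra.linearMap A (Localization.AtPrime P))) ?_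
  refine LinearMap.ext fun m => ?_
  show locHom P M (φ ∘ₗ g) (LocalizedModule.mkLinearMap P.primeCompl M m) =
    locHom P N φ (LocalizedModule.map P.primeCompl g (LocalizedModule.mkLinearMap P.primeCompl M m))
  rw [locHom_apply, LinearMap.comp_apply]
  refine (locHom_apply P N φ (g m)).symm.trans (congrArg _ ?_)
  simp [LocalizedModule.map_mk]

/-- `Ext^j(M,A)` vanishes at `P` iff `Ext^j(M_P,A_P)` vanishes. -/
theorem subsingleton_localized_ext_iff [IsNoetherianRing A] :
    ∀ (j : ℕ) (M : Type u) [AddCommGroup M] [Module A M] [Module.Finite A M],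
      Subsingleton (LocalizedModule P.primeCompl
          (Abelian.Ext (ModuleCat.of A M) (ModuleCat.of A A) j)) ↔
        ExtZ (Localization.AtPrime P) (LocalizedModule P.primeCompl M) (Localization.AtPrime P) j := by
  intro j
  induction j with
  | zero =>
    intro M _ _ _
    rw [extZ_zero_iff, localized_subsingleton_congr P.primeCompl
      ((Abelian.Ext.linearEquiv₀ (R := A)).trans
        (ModuleCat.homLinearEquiv (S := A) (M := ModuleCat.of A M) (N := ModuleCat.of A A)))]
    haveI := isLocalizedModule_locHom P M
    exact (IsLocalizedModule.iso P.primeCompl (locHom P M)).toEquiv.subsingleton_congr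
  | succ j ih =>
    intro M _ _ _
    obtain ⟨n, g, hg⟩ := Module.Finite.exists_fin' A M
    set inc := (LinearMap.ker g).subtype
    have hex : Function.Exact inc g := LinearMap.exact_subtype_ker_map g
    have hinc : Function.Injective inc := Submodule.injective_subtype _
    have hex' : Function.Exact (LocalizedModule.map P.primeCompl inc)
        (LocalizedModule.map P.primeCompl g) := LocalizedModule.map_exact P.primeCompl inc g hex
    have hinc' := LocalizedModule.map_injective P.primeCompl inc hinc
    have hg' := LocalizedModule.map_surjective P.primeCompl g hg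
    haveI : IsLocalRing (Localization.AtPrime P) := inferInstance
    cases j with
    | succ j =>
      rw [← localized_subsingleton_congr P.primeCompl
        (LinearEquiv.ofBijective _ (extShift_bijective hex hinc hg j)), ih]
      exact (LinearEquiv.ofBijective _
        (extShift_bijective hex' hinc' hg' j)).toEquiv.subsingleton_congr
    | zero =>
      haveI := isLocalizedModule_locHom P (LinearMap.ker g)
      haveI := isLocalizedModule_locHom P (Fin n → A)
      have hd := extShift₀_surjective hex hinc hg
      have hd' := extShift₀_surjective (A := Localization.AtPrime P) (K := LocalizedModule P.primeCompl (LinearMap.ker g)) (F := LocalizedModule P.primeCompl (Fin n → A)) (M := LocalizedModule P.primeCompl M) hex' hinc' hg'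
      rw [LocalizedModule.subsingleton_iff]
      constructor
      · intro h
        refine subsingleton_of_forall_eq 0 fun x => ?_
        obtain ⟨φ', rfl⟩ := hd' x
        rw [extShift₀_eq_zero_iff]
        obtain ⟨⟨φ, t⟩, ht⟩ := IsLocalizedModule.surj P.primeCompl (locHom P (LinearMap.ker g)) φ'
        obtain ⟨s, hs, h0⟩ := h (extShift₀ hex hinc hg φ)
        rw [← map_smul, extShift₀_eq_zero_iff] at h0
        obtain ⟨h₁, hh₁⟩ := h0
        have hu : IsUnit (algebraMap A (Localization.AtPrime P) (s * t)) :=
          IsLocalization.map_units (Localization.AtPrime P)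
            (⟨s * t, P.primeCompl.mul_mem hs t.2⟩ : P.primeCompl)
        refine ⟨(↑hu.unit⁻¹ : Localization.AtPrime P) • locHom P (Fin n → A) h₁, ?_⟩
        have key : algebraMap A (Localization.AtPrime P) (s * t) • φ' =
            locHom P (Fin n → A) h₁ ∘ₗ LocalizedModule.map P.primeCompl inc := by
          rw [← locHom_comp, hh₁, map_smul, algebraMap_smul, mul_smul]
          congr 1
        rw [LinearMap.smul_comp, ← key, smul_smul, IsUnit.val_inv_mul, one_smul]
      · intro h x
        obtain ⟨φ, rfl⟩ := hd x
        obtain ⟨h', hh'⟩ := (extShift₀_eq_zero_iff hex' hinc' hg'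
          (locHom P (LinearMap.ker g) φ)).1 (Subsingleton.elim (h := h) _ _)
        obtain ⟨⟨h₁, t⟩, ht⟩ := IsLocalizedModule.surj P.primeCompl (locHom P (Fin n → A)) h'
        have hμ : locHom P (LinearMap.ker g) ((t : A) • φ) =
            locHom P (LinearMap.ker g) (h₁ ∘ₗ inc) := by
          rw [map_smul, locHom_comp, ← hh', ← ht]
          rfl
        obtain ⟨c, hc⟩ := IsLocalizedModule.exists_of_eq (S := P.primeCompl) hμ
        refine ⟨c * t, P.primeCompl.mul_mem c.2 t.2, ?_⟩
        rw [← map_smul, extShift₀_eq_zero_iff]
        exact ⟨(c : A) • h₁, by rw [mul_smul, LinearMap.smul_comp]; exact hc.symm⟩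

end Groth.LocDual
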