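import Groth.Agent.LocDual.Quotient
import Groth.Agent.LocCohBase.Nonvanishing
import Groth.Agent.LocCohBase.Torsion

/-!
Finite length of local cohomology over quotients of Gorenstein local rings.
-/

set_option autoImplicit false
universe u

open CategoryTheory IsLocalRing GrothGoren Groth.LocCohBase

namespace Groth.LocDual

variable {A : Type u} [CommRing A] [IsLocalRing A] [IsNoetherianRing A]

theorem isFiniteLength_H_iff (M : Type u) [AddCommGroup M] [Module A M] [Module.Finite A M]
    (i : ℕ) : IsFiniteLength A (LocCoh.H (maximalIdeal A) i M) ↔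
      maximalIdeal A ≤ (Module.annihilator A (LocCoh.H (maximalIdeal A) i M)).radical := by
  constructor
  · intro h
    obtain ⟨hN, -⟩ := isFiniteLength_iff_isNoetherian_isArtinian.1 h
    haveI : Module.Finite A (LocCoh.H (maximalIdeal A) i M) := inferInstance
    obtain ⟨s, hs⟩ := Module.Finite.fg_top (R := A) (M := LocCoh.H (maximalIdeal A) i M)
    choose k hk using fun x : LocCoh.H (maximalIdeal A) i M =>
      isPowerTorsion_H (maximalIdeal A) i (ModuleCat.of A M) x
    intro a ha
    refine ⟨s.sup k, Module.mem_annihilator.2 fun x => ?_⟩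
    have hx : x ∈ Submodule.span A (s : Set (LocCoh.H (maximalIdeal A) i M)) :=
      hs.symm ▸ Submodule.mem_top
    induction hx using Submodule.span_induction with
    | mem y hy => exact hk y _ (Ideal.pow_le_pow_right (Finset.le_sup hy) (Ideal.pow_mem_pow ha _))
    | zero => exact smul_zero _
    | add y z _ _ hy hz => rw [smul_add, hy, hz, add_zero]
    | smul c y _ hy => rw [smul_comm, hy, smul_zero]
  · intro h
    obtain ⟨N, hN⟩ := Ideal.exists_pow_le_of_le_radical_of_fg h
      (IsNoetherian.noetherian (maximalIdeal A))
    haveI := isArtinian_H (R := A) M i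
    haveI : Module.Finite A (LocCoh.H (maximalIdeal A) i M) :=
      finite_of_artinian_of_killed N fun x a ha => Module.mem_annihilator.1 (hN ha) x
    exact isFiniteLength_iff_isNoetherian_isArtinian.2 ⟨inferInstance, inferInstance⟩

variable {R : Type u} [CommRing R] [IsNoetherianRing R] [IsLocalRing R] [Algebra R A]

theorem isFiniteLength_H_iff_atPrime (hR : ∃ n, InjLT R R n)
    (hπ : Function.Surjective (algebraMap R A)) (M : Type u) [AddCommGroup M] [Module A M]
    [Module.Finite A M] (i : ℕ) : IsFiniteLength A (LocCoh.H (maximalIdeal A) i M) ↔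
      ∀ (p : Ideal A) [p.IsPrime], p ≠ maximalIdeal A → ∀ e j : ℕ, ringKrullDim (A ⧸ p) = e →
        j + e = i → Subsingleton (LocCoh.H (maximalIdeal (Localization.AtPrime p)) j
          (LocalizedModule p.primeCompl M)) := by
  rw [isFiniteLength_H_iff, le_radical_annihilator_H_iff hR hπ M]
  refine forall₂_congr fun p hp => imp_congr ?_ Iff.rfl
  exact not_congr ⟨fun h => le_antisymm (IsLocalRing.le_maximalIdeal hp.ne_top) h,
    fun h => h.symm.le⟩

end Groth.LocDual
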