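import Groth.Agent.LocFinite.CMOff
import Groth.Agent.LocDual.ExtLocal
import Groth.Agent.Gorenstein.Regular
import Groth.Agent.LocDual.FiniteLength
import Groth.Agent.S5765

/-!
Dimensions along chains of primes in a quotient of a Gorenstein local ring.
-/

set_option autoImplicit false
universe u

open IsLocalRing GrothGoren

namespace Groth.LocDual

variable {R : Type u} [CommRing R] [IsNoetherianRing R]

/-- Heights add along comparable primes when the self-injective dimension is finite. -/
theorem height_add_Ici_of_injLT {n : ℕ} (hR : InjLT R R n) (X Y : PrimeSpectrum R) (h : X ≤ Y) :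
    Y.asIdeal.height = X.asIdeal.height + Order.height (⟨Y, h⟩ : Set.Ici X) := by
  have hinj : ∃ k, InjLT (Localization.AtPrime Y.asIdeal) (Localization.AtPrime Y.asIdeal) k :=
    ⟨_, exists_injLT_localization Y.asIdeal.primeCompl hR⟩
  obtain ⟨r, hr, -⟩ := exists_dim (Localization.AtPrime Y.asIdeal) hinj
  have hdisj : Disjoint (Y.asIdeal.primeCompl : Set R) X.asIdeal :=
    Set.disjoint_left.2 fun x hx hxp => hx (h hxp)
  set X' := X.asIdeal.map (algebraMap R (Localization.AtPrime Y.asIdeal))
  haveI : X'.IsPrime := IsLocalization.isPrime_of_isPrime_disjoint Y.asIdeal.primeCompl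
    (Localization.AtPrime Y.asIdeal) X.asIdeal X.isPrime hdisj
  have hX : X.asIdeal = X'.comap (algebraMap R (Localization.AtPrime Y.asIdeal)) :=
    (IsLocalization.under_map_of_isPrime_disjoint Y.asIdeal.primeCompl _ X.isPrime hdisj).symm
  obtain ⟨a, b, hab, ha, hb⟩ := exists_dim_split (isCohenMacaulay _ hinj) hr X'
  rw [ringKrullDim_quotient_localized Y X' X hX h] at hb
  rw [IsLocalization.AtPrime.ringKrullDim_eq_height Y.asIdeal] at hr
  rw [IsLocalization.AtPrime.ringKrullDim_eq_height X'] at ha
  have hXa : X.asIdeal.height = a := by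
    rw [hX, show (X'.comap (algebraMap R (Localization.AtPrime Y.asIdeal))).height = X'.height from
      IsLocalization.height_under Y.asIdeal.primeCompl X']
    exact_mod_cast ha
  rw [hXa, show Y.asIdeal.height = r from WithBot.coe_injective hr,
    show Order.height (⟨Y, h⟩ : Set.Ici X) = b from WithBot.coe_injective hb, ← hab]
  push_cast
  rfl

variable [IsLocalRing R]

/-- `dim R/X = dim R/Y + ht Y/X`. -/
theorem coheight_eq_add_height_Ici_of_injLT {n : ℕ} (hR : InjLT R R n) (X Y : PrimeSpectrum R)
    (h : X ≤ Y) : Order.coheight X = Order.coheight Y + Order.height (⟨Y, h⟩ : Set.Ici X) := by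
  obtain ⟨r, hr, -⟩ := exists_dim R ⟨n, hR⟩
  have hCM := isCohenMacaulay R ⟨n, hR⟩
  have key : ∀ P : PrimeSpectrum R, P.asIdeal.height + Order.coheight P = r := by
    intro P
    obtain ⟨a, b, hab, ha, hb⟩ := exists_dim_split hCM hr P.asIdeal
    rw [IsLocalization.AtPrime.ringKrullDim_eq_height P.asIdeal] at ha
    rw [show ringKrullDim (R ⧸ P.asIdeal) = _ from
      Groth.Ega4Algebra1.ringKrullDim_quotient_eq_coheight R P] at hb
    rw [show P.asIdeal.height = a from WithBot.coe_injective ha,
      show Order.coheight P = b from WithBot.coe_injective hb]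
    exact_mod_cast hab
  have h1 := key X
  rw [← key Y, height_add_Ici_of_injLT hR X Y h, add_assoc] at h1
  have h2 := ENat.add_right_injective_of_ne_top (Ideal.height_ne_top X.isPrime.ne_top) h1
  rw [h2, add_comm]

variable {A : Type u} [CommRing A] [Algebra R A]

/-- The same in a quotient of such a ring. -/
theorem coheight_eq_add_height_Ici {n : ℕ} (hR : InjLT R R n)
    (hπ : Function.Surjective (algebraMap R A)) {p q : PrimeSpectrum A} (h : p ≤ q) :
    Order.coheight p = Order.coheight q + Order.height (⟨q, h⟩ : Set.Ici p) := by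
  let C : PrimeSpectrum A → PrimeSpectrum R := PrimeSpectrum.comap (algebraMap R A)
  obtain ⟨e, he⟩ := Groth.LocFinite.exists_Ici_orderIso hπ p
  obtain ⟨e', -⟩ := Groth.LocFinite.exists_Ici_orderIso hπ q
  have hc : ∀ {x : PrimeSpectrum A} (f : Set.Ici x ≃o Set.Ici (C x)),
      Order.coheight x = Order.coheight (C x) := fun {x} f => by
    have h1 := Order.krullDim_eq_of_orderIso f
    rw [← Order.coheight_eq_krullDim_Ici, ← Order.coheight_eq_krullDim_Ici] at h1
    exact WithBot.coe_injective h1
  have hh : C p ≤ C q := Ideal.comap_mono h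
  rw [hc e, hc e', coheight_eq_add_height_Ici_of_injLT hR (C p) (C q) hh,
    show (⟨C q, hh⟩ : Set.Ici (C p)) = e ⟨q, h⟩ from Subtype.ext (he ⟨q, h⟩).symm,
    Order.height_orderIso]

end Groth.LocDual
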