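import Groth.Agent.LocDual.SupportBound
import Groth.Agent.LocDual.CompleteQuotient
import Groth.Agent.LocDual.EquidimGorenstein
import Groth.Agent.LocCohTransform.BaseChange
import Groth.Agent.Calg1.CompletionLocal
import Groth.Agent.Matlis.Criterion
import Groth.Agent.S6284
import Groth.Agent.Gorenstein.Regular

/-!
The top local cohomology and canonical modules through the completion.
-/

set_option autoImplicit false
universe u

open CategoryTheory IsLocalRing InjHull GrothGoren Groth.LocCohBase TensorProduct

namespace Groth.LocDual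

section Quotient

variable {A : Type u} [CommRing A] [IsNoetherianRing A] [IsLocalRing A]

/-- Over a quotient of a Gorenstein ring, what kills the top local cohomology vanishes at the primes
of top coheight. -/
theorem exists_notMem_mul_eq_zero {S : Type u} [CommRing S] [IsNoetherianRing S] [IsLocalRing S]
    [Algebra S A] (hS : ∃ k, InjLT S S k) (hπ : Function.Surjective (algebraMap S A)) {n : ℕ}
    (hn : ringKrullDim A = n) {c : A}
    (hc : c ∈ Module.annihilator A (LocCoh.H (maximalIdeal A) n A)) {q : PrimeSpectrum A}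
    (hq : Order.coheight q = n) : ∃ t ∉ q.asIdeal, t * c = 0 := by
  let g₀ : A →ₗ[A] A := LinearMap.lsmul A A c
  set N := LinearMap.range g₀
  by_contra hno
  push Not at hno
  have hA : Module.supportDim A A ≤ (n : ℕ) := by rw [Module.supportDim_self_eq_ringKrullDim, hn]
  have hqN : q ∈ Module.support A N := Module.mem_support_iff'.2
    ⟨⟨c, 1, by simp [g₀]⟩, fun t ht h0 => hno t ht (congrArg Subtype.val h0)⟩
  have hle := annihilator_H_le_of_coheight_eq N
    ((Module.supportDim_le_of_injective _ N.injective_subtype).trans hA) hqN hq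
  let ι' := ((localCohomology (maximalIdeal A) n).map (ModuleCat.ofHom N.subtype)).hom
  let π' := ((localCohomology (maximalIdeal A) n).map (ModuleCat.ofHom g₀.rangeRestrict)).hom
  have hπs : Function.Surjective π' :=
    H_top_map_surjective (maximalIdeal A) g₀.rangeRestrict g₀.surjective_rangeRestrict hA
  have hzero : ∀ w, ι' w = 0 := fun w => by
    obtain ⟨x, rfl⟩ := hπs w
    show ((localCohomology (maximalIdeal A) n).map _).hom
      (((localCohomology (maximalIdeal A) n).map _).hom x) = 0
    rw [← Groth.LocCohTransform.map_comp']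
    have h1 := Module.mem_annihilator.1 hc x
    rw [show ModuleCat.ofHom g₀.rangeRestrict ≫ ModuleCat.ofHom N.subtype =
      c • 𝟙 (ModuleCat.of A A) from ModuleCat.hom_ext rfl]
    exact (smul_eq_map (I := maximalIdeal A) n (ModuleCat.of A A) c x).symm.trans h1
  have hS' := GrothGoren.seqCx_shortExact N.subtype N.mkQ (LinearMap.exact_subtype_mkQ _)
    N.injective_subtype N.mkQ_surjective
  rcases n with _ | m
  · have hinj := map_f_injective_zero (I := maximalIdeal A) hS'
    refine q.isPrime.ne_top (top_le_iff.1 (le_trans ?_ hle))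
    rw [top_le_iff, Module.annihilator_eq_top_iff]
    refine subsingleton_of_forall_eq 0 fun w => hinj ?_
    rw [map_zero]
    exact hzero w
  · have hann : Module.annihilator A (LocCoh.H (maximalIdeal A) m (A ⧸ N)) ≤
        Module.annihilator A (LocCoh.H (maximalIdeal A) (m + 1) N) := by
      intro b hb
      rw [Module.mem_annihilator]
      intro w
      obtain ⟨v, rfl⟩ := (exact₁ (I := maximalIdeal A) hS' m w).1 (hzero w)
      rw [← map_smul]
      exact (congrArg _ (Module.mem_annihilator.1 hb v)).trans (map_zero _)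
    have h2 := coheight_le_of_annihilator_H_le hS hπ (A ⧸ N) q (hann.trans hle)
    rw [hq] at h2
    have h3 : m + 1 ≤ m := by exact_mod_cast h2
    omega

end Quotient

section Cpl

variable (R : Type u) [CommRing R] [IsLocalRing R] [IsNoetherianRing R]

local notation "C" => AdicCompletion (maximalIdeal R) R

theorem isNoetherianRing_cpl : IsNoetherianRing C :=
  Groth.Calg1.isNoetherianRing_adicCompletion _ (IsNoetherian.noetherian (maximalIdeal R))

theorem faithfullyFlat_cpl : Module.FaithfullyFlat R C :=
  Module.FaithfullyFlat.of_flat_of_isLocalHom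

/-- Flat base change to the completion. -/
theorem nonempty_H_cpl_equiv (M : Type u) [AddCommGroup M] [Module R M] (i : ℕ) :
    Nonempty (C ⊗[R] LocCoh.H (maximalIdeal R) i M ≃ₗ[C]
      LocCoh.H (maximalIdeal C) i (C ⊗[R] M)) := by
  haveI := isNoetherianRing_cpl R
  have h := Groth.LocCohTransform.nonempty_baseChange_equiv C (maximalIdeal R) M i
  rwa [← AdicCompletion.maximalIdeal_eq_map] at h

theorem nonempty_H_cpl_self_equiv (i : ℕ) :
    Nonempty (C ⊗[R] LocCoh.H (maximalIdeal R) i R ≃ₗ[C] LocCoh.H (maximalIdeal C) i C) := by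
  obtain ⟨e⟩ := nonempty_H_cpl_equiv R R i
  exact ⟨e.trans ((localCohomology (maximalIdeal C) i).mapIso
    (AlgebraTensorModule.rid R C C).toModuleIso).toLinearEquiv⟩

/-- What kills local cohomology kills it over the completion. -/
theorem algebraMap_mem_annihilator_H_cpl {i : ℕ} {c : R}
    (hc : c ∈ Module.annihilator R (LocCoh.H (maximalIdeal R) i R)) :
    algebraMap R C c ∈ Module.annihilator C (LocCoh.H (maximalIdeal C) i C) := by
  obtain ⟨e⟩ := nonempty_H_cpl_self_equiv R i
  rw [← e.annihilator_eq, Module.mem_annihilator]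
  intro x
  induction x using TensorProduct.induction_on with
  | zero => exact smul_zero _
  | add a b ha hb => rw [smul_add, ha, hb, add_zero]
  | tmul a h => rw [algebraMap_smul, ← TensorProduct.tmul_smul, Module.mem_annihilator.1 hc,
      TensorProduct.tmul_zero]

/-- The dimension of the support does not change under completion. -/
theorem supportDim_cpl (M : Type u) [AddCommGroup M] [Module R M] [Module.Finite R M] {n : ℕ}
    (hn : Module.supportDim R M = n) : Module.supportDim C (C ⊗[R] M) = n := by
  haveI := isNoetherianRing_cpl R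
  haveI := faithfullyFlat_cpl R
  haveI : Nontrivial M := by
    rw [← not_subsingleton_iff_nontrivial, ← Module.supportDim_eq_bot_iff_subsingleton R M, hn]
    exact WithBot.coe_ne_bot
  haveI : Nontrivial (C ⊗[R] M) := inferInstance
  have hdim : Module.supportDim C (C ⊗[R] M) ≠ ⊥ := Module.supportDim_ne_bot_of_nontrivial _ _
  have hfin : Module.supportDim C (C ⊗[R] M) ≤ ringKrullDim C :=
    Module.supportDim_le_ringKrullDim _ _
  obtain ⟨d, hd⟩ : ∃ d : ℕ, Module.supportDim C (C ⊗[R] M) = d := by
    obtain ⟨v, hv⟩ := WithBot.ne_bot_iff_exists.1 hdim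
    cases v with
    | top =>
      exfalso
      rw [← hv] at hfin
      exact not_le_of_gt (ringKrullDim_lt_top (R := C)) hfin
    | coe v => exact ⟨v, hv.symm⟩
  rw [hd]
  rcases lt_trichotomy d n with h | h | h
  · exfalso
    haveI := nontrivial_H_supportDim M n hn
    obtain ⟨e⟩ := nonempty_H_cpl_equiv R M n
    haveI : Subsingleton (LocCoh.H (maximalIdeal C) n (C ⊗[R] M)) :=
      subsingleton_H_of_supportDim_lt _ _ (by rw [hd]; exact_mod_cast h)
    exact not_subsingleton (C ⊗[R] LocCoh.H (maximalIdeal R) n M) e.toEquiv.subsingleton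
  · rw [h]
  · exfalso
    haveI := nontrivial_H_supportDim (C ⊗[R] M) d hd
    obtain ⟨e⟩ := nonempty_H_cpl_equiv R M d
    haveI : Subsingleton (LocCoh.H (maximalIdeal R) d M) :=
      subsingleton_H_of_supportDim_lt _ _ (by rw [hn]; exact_mod_cast h)
    exact not_subsingleton (LocCoh.H (maximalIdeal C) d (C ⊗[R] M)) e.toEquiv.symm.subsingleton

variable {R}

/-- A prime of the completion over a given one, of the same coheight and height. -/
theorem exists_prime_cpl (p : PrimeSpectrum R) :
    ∃ P : PrimeSpectrum C, PrimeSpectrum.comap (algebraMap R C) P = p ∧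
      Order.coheight P = Order.coheight p ∧ P.asIdeal.height = p.asIdeal.height := by
  haveI := isNoetherianRing_cpl R
  obtain ⟨e, he⟩ := ENat.ne_top_iff_exists.1 (Groth.Ega4Algebra1.coheight_ne_top R p)
  have hdim : Module.supportDim R (R ⧸ p.asIdeal) = (e : ℕ) := by
    rw [Module.supportDim_quotient_eq_ringKrullDim,
      Groth.Ega4Algebra1.ringKrullDim_quotient_eq_coheight R p, ← he]
    rfl
  have hC := supportDim_cpl R (R ⧸ p.asIdeal) hdim
  have hmem : ∀ Q : PrimeSpectrum C, Q ∈ Module.support C (C ⊗[R] (R ⧸ p.asIdeal)) ↔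
      p.asIdeal.map (algebraMap R C) ≤ Q.asIdeal := by
    intro Q
    rw [Groth.Agent.S6284.result, Set.mem_preimage, Module.mem_support_iff_of_finite,
      Ideal.annihilator_quotient, Ideal.map_le_iff_le_comap]
    rfl
  obtain ⟨Q, hQ, hQe⟩ : ∃ Q ∈ Module.support C (C ⊗[R] (R ⧸ p.asIdeal)),
      (e : ℕ∞) ≤ Order.coheight Q := by
    by_contra hno
    push Not at hno
    have := (supportDim_lt_iff _ e).2 hno
    rw [hC] at this
    exact lt_irrefl _ this
  obtain ⟨P, hP, hPQ⟩ := Ideal.exists_minimalPrimes_le ((hmem Q).1 hQ)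
  haveI := hP.1.1
  let P' : PrimeSpectrum C := ⟨P, inferInstance⟩
  have hP'mem : P' ∈ Module.support C (C ⊗[R] (R ⧸ p.asIdeal)) := (hmem P').2 hP.1.2
  have hco : Order.coheight P' = e := le_antisymm ((supportDim_le_iff _ e).1 hC.le P' hP'mem)
    (hQe.trans (Order.coheight_anti (show P' ≤ Q from hPQ)))
  have hpP : p.asIdeal ≤ P.comap (algebraMap R C) := Ideal.map_le_iff_le_comap.1 hP.1.2
  haveI : P.LiesOver (P.comap (algebraMap R C)) := ⟨rfl⟩
  haveI : (P.comap (algebraMap R C)).IsPrime := Ideal.IsPrime.comap _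
  haveI := Algebra.HasGoingDown.of_flat (R := R) (S := C)
  obtain ⟨P₂, hP₂, hP₂p, hP₂o⟩ := Ideal.exists_ideal_le_liesOver_of_le
    (p := p.asIdeal) (q := P.comap (algebraMap R C)) P hpP
  have hP₂P : P₂ = P := le_antisymm hP₂ (hP.2
    ⟨hP₂p, Ideal.map_le_iff_le_comap.2 hP₂o.over.le⟩ hP₂)
  subst hP₂P
  haveI := hP₂o
  refine ⟨P', PrimeSpectrum.ext hP₂o.over.symm, by rw [hco, he], ?_⟩
  rw [show P'.asIdeal.height = _ from
    Ideal.height_eq_height_add_of_liesOver_of_hasGoingDown p.asIdeal P₂]
  have h0 : (P₂.map (Ideal.Quotient.mk (p.asIdeal.map (algebraMap R C)))).height = 0 := by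
    haveI := Ideal.map_isPrime_of_surjective (I := P₂) (Ideal.Quotient.mk_surjective
      (I := p.asIdeal.map (algebraMap R C))) (by rw [Ideal.mk_ker]; exact hP.1.2)
    rw [Ideal.height_eq_zero_iff]
    refine ⟨⟨inferInstance, bot_le⟩, fun Q hQ hQP => ?_⟩
    rw [Ideal.map_le_iff_le_comap]
    haveI := hQ.1
    refine hP.2 ⟨Ideal.IsPrime.comap _, ?_⟩ ?_
    · intro x hx
      rw [Ideal.mem_comap, Ideal.Quotient.eq_zero_iff_mem.2 hx]
      exact Q.zero_mem
    · refine (Ideal.comap_mono hQP).trans (le_of_eq ?_)
      rw [Ideal.comap_map_of_surjective _ Ideal.Quotient.mk_surjective, ← RingHom.ker_eq_comap_bot,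
        Ideal.mk_ker]
      exact sup_eq_left.2 hP.1.2
  rw [h0, add_zero]

/-- What kills the top local cohomology vanishes at the primes of top coheight. -/
theorem exists_notMem_mul_eq_zero_local {n : ℕ} (hn : ringKrullDim R = n) {c : R}
    (hc : c ∈ Module.annihilator R (LocCoh.H (maximalIdeal R) n R)) {q : PrimeSpectrum R}
    (hq : Order.coheight q = n) : ∃ t ∉ q.asIdeal, t * c = 0 := by
  haveI := isNoetherianRing_cpl R
  obtain ⟨P, hPq, hPco, -⟩ := exists_prime_cpl q
  obtain ⟨S, _, _, π, hπ⟩ := exists_regularLocal_surjection C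
  letI := π.toAlgebra
  obtain ⟨t, ht, htc⟩ := exists_notMem_mul_eq_zero (exists_injLT_of_regular _ S le_rfl) hπ
    (by rw [Groth.Calg1.ringKrullDim_adicCompletion, hn]) (algebraMap_mem_annihilator_H_cpl R hc)
    (hPco.trans hq)
  let g : R →ₗ[R] R := LinearMap.lsmul R R c
  have hex := Module.Flat.lTensor_exact C (LinearMap.exact_subtype_ker_map g)
  have h0 : g.lTensor C (t ⊗ₜ[R] (1 : R)) = 0 := by
    rw [LinearMap.lTensor_tmul, LinearMap.lsmul_apply, TensorProduct.tmul_smul, TensorProduct.smul_tmul',
      Algebra.smul_def, mul_comm, htc, TensorProduct.zero_tmul]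
  obtain ⟨z, hz⟩ := (hex _).1 h0
  by_contra hno
  push Not at hno
  refine ht ?_
  have key : ∀ z : C ⊗[R] LinearMap.ker g, TensorProduct.rid R C
      ((LinearMap.ker g).subtype.lTensor C z) ∈ P.asIdeal := by
    intro z
    induction z using TensorProduct.induction_on with
    | zero => simp
    | add a b ha hb => rw [map_add, map_add]; exact P.asIdeal.add_mem ha hb
    | tmul a b =>
      rw [LinearMap.lTensor_tmul, TensorProduct.rid_tmul, Algebra.smul_def]
      refine P.asIdeal.mul_mem_right _ ?_
      have hb : (b : R) ∈ q.asIdeal := by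
        by_contra hb
        exact hno _ hb (by rw [mul_comm]; exact LinearMap.mem_ker.1 b.2)
      rw [← hPq] at hb
      exact hb
  have := key z
  rw [hz, TensorProduct.rid_tmul, one_smul] at this
  exact this

/-- The support of a canonical module: `ht p + dim R/p` is the dimension. -/
theorem height_add_coheight_of_mem_support {n : ℕ} (hn : ringKrullDim R = n) {E : Type u}
    [AddCommGroup E] [Module R E] {f : ResidueField R →ₗ[R] E} (hf : IsInjectiveHull f) {K : Type u}
    [AddCommGroup K] [Module R K] [Module.Finite R K]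
    (eK : (K →ₗ[R] E) ≃ₗ[R] LocCoh.H (maximalIdeal R) n R) {p : PrimeSpectrum R}
    (hp : p ∈ Module.support R K) : p.asIdeal.height + Order.coheight p = n := by
  haveI := isNoetherianRing_cpl R
  have hnC : ringKrullDim C = n := by rw [Groth.Calg1.ringKrullDim_adicCompletion, hn]
  obtain ⟨P, hPp, hPco, hPht⟩ := exists_prime_cpl p
  rw [← hPco, ← hPht]
  refine le_antisymm ?_ ?_
  · have h1 := Order.krullDim_eq_iSup_height_add_coheight_of_nonempty (α := PrimeSpectrum C)
    rw [show Order.krullDim (PrimeSpectrum C) = ringKrullDim C from rfl, hnC] at h1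
    rw [show (n : ℕ∞) = _ from WithBot.coe_injective h1, PrimeSpectrum.height_eq_orderHeight]
    exact le_iSup (fun Q : PrimeSpectrum C => Order.height Q + Order.coheight Q) P
  have hsupp : P ∈ Module.support C (C ⊗[R] K) := by
    rw [Groth.Agent.S6284.result, Set.mem_preimage, hPp]
    exact hp
  have hle : Module.annihilator C (LocCoh.H (maximalIdeal C) n C) ≤ P.asIdeal := by
    refine le_trans (fun z hz => ?_) (Module.mem_support_iff_of_finite.1 hsupp)
    obtain ⟨e⟩ := nonempty_H_cpl_self_equiv R n
    rw [Module.mem_annihilator]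
    intro y
    by_contra hy
    obtain ⟨k, hk⟩ : ∃ k : ℕ, z • y ∉ (maximalIdeal C) ^ k • (⊤ : Submodule C (C ⊗[R] K)) := by
      by_contra hno
      push Not at hno
      refine hy ((Submodule.mem_bot C).1 ?_)
      rw [← Ideal.iInf_pow_smul_eq_bot_of_isLocalRing (R := C) (M := C ⊗[R] K) (maximalIdeal C)
        (maximalIdeal.isMaximal C).ne_top]
      exact (Submodule.mem_iInf _).2 hno
    set L := (maximalIdeal R) ^ k • (⊤ : Submodule R K)
    have hT : LocCoh.IsPowerTorsion (maximalIdeal R) (K ⧸ L) := fun x => ⟨k, fun a ha => by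
      obtain ⟨x, rfl⟩ := Submodule.Quotient.mk_surjective _ x
      rw [← Submodule.Quotient.mk_smul, Submodule.Quotient.mk_eq_zero]
      exact Submodule.smul_mem_smul ha Submodule.mem_top⟩
    have hbij := GrothMatlis.completion_tensor_bijective hT
    obtain ⟨w, hw⟩ := hbij.2 (L.mkQ.lTensor C (z • y))
    have hwne : w ≠ 0 := by
      rintro rfl
      rw [map_zero] at hw
      obtain ⟨v, hv⟩ := ((Module.Flat.lTensor_exact C (LinearMap.exact_subtype_mkQ L)) _).1 hw.symm
      refine hk ?_
      rw [← hv]
      clear hv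
      induction v using TensorProduct.induction_on with
      | zero => rw [map_zero]; exact zero_mem _
      | add a b ha hb => rw [map_add]; exact add_mem ha hb
      | tmul a b =>
        obtain ⟨b, hb⟩ := b
        rw [LinearMap.lTensor_tmul, Submodule.subtype_apply]
        induction hb using Submodule.smul_induction_on' with
        | smul r hr x _ =>
          rw [show a ⊗ₜ[R] (r • x) = algebraMap R C r • (a ⊗ₜ[R] x) by
            rw [algebraMap_smul, TensorProduct.tmul_smul]]
          refine Submodule.smul_mem_smul ?_ Submodule.mem_top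
          rw [AdicCompletion.maximalIdeal_eq_map, ← Ideal.map_pow]
          exact Ideal.mem_map_of_mem _ hr
        | add a' _ b' _ ha' hb' => rw [TensorProduct.tmul_add]; exact add_mem ha' hb'
    obtain ⟨ψ, hψ⟩ := GrothMatlis.exists_dual_ne_zero hf hwne
    let Φ := LinearMap.baseChangeHom R C K E
    have hkill : z • Φ (ψ ∘ₗ L.mkQ) = 0 := by
      have h1 := congrArg e.symm (Module.mem_annihilator.1 hz (e ((1 : C) ⊗ₜ[R] eK (ψ ∘ₗ L.mkQ))))
      rw [map_smul, LinearEquiv.symm_apply_apply, map_zero] at h1
      let Ψ : C ⊗[R] LocCoh.H (maximalIdeal R) n R →ₗ[C] (C ⊗[R] K →ₗ[C] C ⊗[R] E) :=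
        AlgebraTensorModule.lift
          ((LinearMap.lsmul C (C ⊗[R] K →ₗ[C] C ⊗[R] E)).flip.restrictScalars R ∘ₗ
            (Φ ∘ₗ eK.symm.toLinearMap)).flip
      have h2 := congrArg Ψ h1
      rw [map_smul, map_zero] at h2
      simpa [Ψ] using h2
    have h3 := LinearMap.congr_fun hkill y
    rw [LinearMap.smul_apply, ← map_smul, LinearMap.zero_apply] at h3
    have h4 : ψ.lTensor C (L.mkQ.lTensor C (z • y)) = 0 := by
      rw [← LinearMap.comp_apply, ← LinearMap.lTensor_comp]
      exact h3
    rw [← hw, TensorProduct.mk_apply, LinearMap.lTensor_tmul] at h4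
    exact hψ ((GrothMatlis.completion_tensor_bijective (GrothMatlis.hull_isPowerTorsion hf)).1
      (h4.trans (map_zero (TensorProduct.mk R C E 1)).symm))
  obtain ⟨S, _, _, π, hπ⟩ := exists_regularLocal_surjection C
  letI := π.toAlgebra
  obtain ⟨E', _, _, f', hf'⟩ := GrothMatlis.exists_hull C (ResidueField C)
  haveI := isArtinian_H (R := C) C n
  haveI := (GrothMatlis.duality_artinian hf' (LocCoh.H (maximalIdeal C) n C)).1
  rw [GrothMatlis.annihilator_dual_eq hf'] at hle
  obtain ⟨Q, hQ, hQP⟩ := Ideal.exists_minimalPrimes_le hle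
  haveI := hQ.1.1
  have hQco := ((mem_associatedPrimes_dual_top_iff hf' C
    (by rw [Module.supportDim_self_eq_ringKrullDim, hnC]) ⟨Q, inferInstance⟩).1
    (Module.associatedPrimes.minimalPrimes_annihilator_subset_associatedPrimes C _ hQ)).2
  obtain ⟨k, hk⟩ := exists_injLT_of_regular _ S le_rfl
  have hadd := coheight_eq_add_height_Ici hk hπ (p := (⟨Q, inferInstance⟩ : PrimeSpectrum C))
    (q := P) hQP
  rw [hQco] at hadd
  rw [hadd, add_comm (Order.coheight P), PrimeSpectrum.height_eq_orderHeight]
  exact add_le_add (Order.height_le_height_apply_of_strictMono Subtype.val (fun _ _ h => h) _) le_rfl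

end Cpl

end Groth.LocDual
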