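import Groth.Agent.Calg4.NormalAscent
import Groth.Agent.Ega4Algebra1.ExcellentLoc
import Groth.Agent.LocCohTransform.CompletionHLVT
import Groth.Agent.LocDual.Completion

/-!
Completion of a normal excellent local domain, and Hartshorne–Lichtenbaum for it.
-/

set_option autoImplicit false
universe u

open IsLocalRing TensorProduct

namespace Groth.LocDual.NormalExcellent

variable (A : Type u) [CommRing A] [IsLocalRing A] [IsNoetherianRing A]

local notation "C" => AdicCompletion (maximalIdeal A) A

theorem isRegularHom_completion (hA : CAlg.IsGRing A) : CAlg.IsRegularHom A C := by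
  have : IsLocalization.AtPrime A (maximalIdeal A) :=
    IsLocalization.self fun x hx => by
      by_contra h
      exact hx h
  let e := (IsLocalization.algEquiv (maximalIdeal A).primeCompl
    (Localization.AtPrime (maximalIdeal A)) A).toRingEquiv
  exact Groth.Ega4Algebra1.isRegularHom_completion_of_ringEquiv e (hA.2 (maximalIdeal A))

theorem isNormalRing_of_domain [IsDomain A] [IsIntegrallyClosed A] : EGA4.IsNormalRing A := fun p _ =>
  ⟨IsLocalization.isDomain_localization p.primeCompl_le_nonZeroDivisors,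
    isIntegrallyClosed_of_isLocalization _ p.primeCompl p.primeCompl_le_nonZeroDivisors⟩

theorem isDomain_completion [IsDomain A] [IsIntegrallyClosed A] (hA : CAlg.IsGRing A) : IsDomain C := by
  have := Groth.LocCohTransform.HLVT.isNoetherianRing_completion A
  obtain ⟨hflat, hfib⟩ := isRegularHom_completion A hA
  have hC : EGA4.IsNormalRing C := by
    refine Groth.Calg4.isNormalRing_of_flat_of_regular_fibers A C (isNormalRing_of_domain A) fun p _ => ?_
    have := (hfib p).2 p.ResidueField inferInstance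
    exact IsRegularRing.of_ringEquiv (R := p.ResidueField ⊗[p.ResidueField] (p.Fiber C)) (Algebra.TensorProduct.lid p.ResidueField (p.Fiber C)).toRingEquiv
  obtain ⟨hR, hS⟩ := Groth.Calg1.normal_iff.mp hC
  exact Groth.Calg1.isDomain_of_R1_S2 hR hS

/-- The top-degree vanishing. -/
theorem cdLE_of_dim [IsDomain A] [IsIntegrallyClosed A] (hA : CAlg.IsGRing A) (I : Ideal A)
    (hI : (1 : WithBot ℕ∞) ≤ ringKrullDim (A ⧸ I)) {d : ℕ} (hd : ringKrullDim A = d) :
    ∃ d' : ℕ, d = d' + 1 ∧ LocCoh.CdLE A I d' := by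
  have := Groth.LocCohTransform.HLVT.isNoetherianRing_completion A
  have := isDomain_completion A hA
  obtain ⟨d', rfl⟩ : ∃ d', d = d' + 1 := by
    have h1 := hI.trans ((ringKrullDim_quotient_le I).trans hd.le)
    have h2 : 1 ≤ d := by exact_mod_cast h1
    exact ⟨d - 1, by omega⟩
  refine ⟨d', rfl, Groth.LocCohBase.cdLE_of_ring I d' fun i hi => ?_⟩
  rcases (Nat.succ_le_of_lt hi).lt_or_eq with h | rfl
  · exact Groth.LocCohBase.cdLE_of_dim_le_local I (d' + 1) hd.le A i h
  refine Groth.LocCohTransform.HLVT.subsingleton_H_of_completion A I (d' + 1) hd fun p hp _ => ?_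
  rw [IsDomain.minimalPrimes_eq_singleton_bot] at hp
  rw [Set.mem_singleton_iff.1 hp, sup_bot_eq]
  obtain ⟨m, hm, hm1⟩ : ∃ m : ℕ, ringKrullDim (A ⧸ I) = m ∧ 1 ≤ m := by
    have hne : ringKrullDim (A ⧸ I) ≠ ⊥ := fun h => by rw [h] at hI; simp at hI
    have hle := (ringKrullDim_quotient_le I).trans hd.le
    obtain ⟨v, hv⟩ := WithBot.ne_bot_iff_exists.1 hne
    cases v with
    | top =>
      exfalso
      rw [← hv] at hle
      exact not_le_of_gt (WithBot.coe_lt_coe.2 (ENat.natCast_lt_top (d' + 1))) hle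
    | coe m => refine ⟨m, hv.symm, ?_⟩; rw [← hv] at hI; exact_mod_cast hI
  have h1 := Groth.LocDual.supportDim_cpl A (A ⧸ I) (n := m)
    (by rw [Module.supportDim_quotient_eq_ringKrullDim]; exact hm)
  rw [← Module.supportDim_eq_of_equiv (R := C)
    (Algebra.TensorProduct.quotIdealMapEquivTensorQuot C I).toLinearEquiv,
    Module.supportDim_quotient_eq_ringKrullDim] at h1
  rw [h1]
  exact_mod_cast hm1

theorem not_cdLE_zero [IsDomain A] (I : Ideal A) (hI : I ≠ ⊥) (hI' : I ≠ ⊤) :
    ¬ LocCoh.CdLE A I 0 := by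
  intro h
  have hH : ∀ i, Subsingleton (LocCoh.H I i A) := by
    intro i
    rcases i with _ | i
    · rw [Groth.LocCohBase.subsingleton_H_zero_iff, eq_bot_iff]
      rintro x ⟨n, hn⟩
      obtain ⟨a, ha, ha0⟩ := Submodule.exists_mem_ne_zero_of_ne_bot hI
      rw [Submodule.mem_bot]
      exact (mul_eq_zero.1 (hn (a ^ n) (Ideal.pow_mem_pow ha n))).resolve_left (pow_ne_zero n ha0)
    · exact h A (i + 1) i.succ_pos
  have htop : LocCoh.idealDepth I A = ⊤ := by
    rw [ENat.eq_top_iff_forall_ge]
    intro n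
    exact (Groth.LocCohBase.le_idealDepth_iff I A n).2 fun i hi =>
      Groth.LocCohBase.ext_subsingleton_of_H I n A (fun j _ => hH j) (A ⧸ I) inferInstance
        (Groth.LocCohBase.support_quotient_eq I).le i hi
  rw [Groth.LocCohBase.idealDepth_eq_top_iff, smul_eq_mul, Ideal.mul_top] at htop
  exact hI' htop

end Groth.LocDual.NormalExcellent
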