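import Groth.Agent.LocDual.Specialization
import Groth.Prelude.Def_SGA2

/-!
Codimension-one reduction for the shifted punctual vanishing conditions.
-/

set_option autoImplicit false
universe u

open CategoryTheory IsLocalRing GrothGoren

namespace Groth.LocDual

variable {A : Type u} [CommRing A] {I : Ideal A}

/-- A finite relative codimension is realised by a prime `p'` of relative codimension one. -/
theorem exists_relCodim_one {p : PrimeSpectrum A} (hp : ¬ I ≤ p.asIdeal) {c : ℕ}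
    (hc : SGA2.relCodim I p = c) :
    ∃ (p' : PrimeSpectrum A) (h : p ≤ p') (e : ℕ), ¬ I ≤ p'.asIdeal ∧
      Order.height (⟨p', h⟩ : Set.Ici p) = e ∧ SGA2.relCodim I p' = 1 ∧ e + 1 = c := by
  obtain ⟨q₀, hq₀⟩ : ∃ q : {q : PrimeSpectrum A // p ≤ q ∧ I ≤ q.asIdeal},
      Order.height (⟨q.1, q.2.1⟩ : Set.Ici p) = c := by
    haveI : Nonempty {q : PrimeSpectrum A // p ≤ q ∧ I ≤ q.asIdeal} := by
      by_contra hne
      rw [not_nonempty_iff] at hne
      rw [SGA2.relCodim, iInf_of_empty] at hc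
      exact ENat.natCast_ne_top c hc.symm
    obtain ⟨q, hq⟩ := ENat.exists_eq_iInf fun q : {q : PrimeSpectrum A // p ≤ q ∧ I ≤ q.asIdeal} =>
      Order.height (⟨q.1, q.2.1⟩ : Set.Ici p)
    exact ⟨q, hq.trans hc⟩
  obtain ⟨l, hl, hlen⟩ := Order.exists_series_of_height_eq_coe _ hq₀
  have hc0 : c ≠ 0 := by
    rintro rfl
    rw [Nat.cast_zero, Order.height_eq_zero] at hq₀
    have : (⟨q₀.1, q₀.2.1⟩ : Set.Ici p) ≤ ⟨p, Set.self_mem_Ici⟩ := hq₀ (show p ≤ q₀.1 from q₀.2.1)
    exact hp (q₀.2.2.trans this)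
  obtain ⟨e, rfl⟩ : ∃ e, c = e + 1 := ⟨c - 1, by omega⟩
  set x : Set.Ici p := ⟨q₀.1, q₀.2.1⟩
  set y : Set.Ici p := l ⟨e, by omega⟩
  have hyx : y < x := by
    rw [← hl]
    exact l.strictMono (Fin.lt_def.2 (by simp; omega))
  have hylow : (e : ℕ∞) ≤ Order.height y := Order.index_le_height l ⟨e, by omega⟩
  have hyhigh : Order.height y ≤ e := by
    have := Order.height_le_coe_iff.1 (le_of_eq hq₀) y hyx
    exact (ENat.lt_natCast_add_one_iff).1 (by exact_mod_cast this)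
  have hy : Order.height y = e := le_antisymm hyhigh hylow
  have hpy : ¬ I ≤ y.1.asIdeal := fun hI => by
    have h1 : SGA2.relCodim I p ≤ Order.height y :=
      iInf_le (fun q : {q : PrimeSpectrum A // p ≤ q ∧ I ≤ q.asIdeal} =>
        Order.height (⟨q.1, q.2.1⟩ : Set.Ici p)) ⟨y.1, y.2, hI⟩
    rw [hc, hy] at h1
    have : e + 1 ≤ e := by exact_mod_cast h1
    omega
  refine ⟨y.1, y.2, e, hpy, hy, le_antisymm ?_ ?_, rfl⟩
  · refine iInf_le_of_le ⟨q₀.1, hyx.le, q₀.2.2⟩ ?_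
    rw [show (1 : ℕ∞) = ((1 : ℕ) : ℕ∞) from rfl, Order.height_le_coe_iff]
    intro w hw
    rw [Nat.cast_one, ENat.lt_one_iff_eq_zero, Order.height_eq_zero]
    intro v hv
    by_contra hwv
    have hvw : (v : PrimeSpectrum A) < w := lt_of_le_not_ge hv hwv
    set z : Set.Ici p := ⟨w.1, Set.mem_Ici.2 (le_trans (show p ≤ y.1 from y.2) (show y.1 ≤ w.1 from w.2))⟩
    have hyz : y < z := show y.1 < w.1 from lt_of_le_of_lt (show y.1 ≤ v.1 from v.2) hvw
    have hzx : z < x := show w.1 < q₀.1 from hw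
    have hz := Order.height_le_coe_iff.1 (le_of_eq hq₀) z hzx
    have hzfin : Order.height y < ⊤ := hy.le.trans_lt (ENat.natCast_lt_top e)
    have h2 := Order.height_strictMono hyz hzfin
    rw [hy] at h2
    have h3 : Order.height z ≤ e := (ENat.lt_natCast_add_one_iff).1 (by exact_mod_cast hz)
    exact lt_irrefl _ (h2.trans_le h3)
  · refine le_iInf fun q => Order.one_le_iff_pos.2 ?_
    rw [pos_iff_ne_zero, Ne, Order.height_eq_zero]
    intro hmin
    have : (⟨q.1, q.2.1⟩ : Set.Ici y.1) ≤ ⟨y.1, Set.self_mem_Ici⟩ := hmin (show y.1 ≤ q.1 from q.2.1)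
    exact hpy (q.2.2.trans this)

end Groth.LocDual
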