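import Groth.Agent.LocDual.Quotient
import Mathlib.RingTheory.Localization.BaseChange
import Mathlib.RingTheory.Localization.LocalizationLocalization

/-!
Behaviour of the vanishing of punctual local cohomology along specializations, over quotients of
locally Gorenstein rings.
-/

set_option autoImplicit false
universe u

open CategoryTheory IsLocalRing GrothGoren Groth.LocCohBase

namespace Groth.LocDual

/-- Punctual local cohomology along a surjection of local rings. -/
theorem subsingleton_H_iff_of_surjective {S T : Type u} [CommRing S] [IsLocalRing S]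
    [IsNoetherianRing S] [CommRing T] [IsLocalRing T] [IsNoetherianRing T] [Algebra S T]
    (hsurj : Function.Surjective (algebraMap S T)) (Y : Type u) [AddCommGroup Y] [Module T Y]
    [Module S Y] [IsScalarTower S T Y] (j : ℕ) :
    Subsingleton (LocCoh.H (maximalIdeal T) j Y) ↔
      Subsingleton (LocCoh.H (maximalIdeal S) j Y) := by
  obtain ⟨ψ, -⟩ := Groth.LocCohTransform.exists_restrict_addEquiv
    (I := maximalIdeal S) (R' := T) Y j
  rw [IsLocalRing.map_maximalIdeal_of_surjective _ hsurj] at ψ
  exact ψ.toEquiv.subsingleton_congr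

variable {A : Type u} [CommRing A] [IsNoetherianRing A]

/-- Punctual local cohomology of an iterated localization. -/
theorem subsingleton_H_localized_localized (q : Ideal A) [q.IsPrime]
    (p' : Ideal (Localization.AtPrime q)) [p'.IsPrime] (p : Ideal A) [p.IsPrime]
    (hp : p = p'.comap (algebraMap A (Localization.AtPrime q)))
    (M : Type u) [AddCommGroup M] [Module A M] (j : ℕ) :
    Subsingleton (LocCoh.H (maximalIdeal (Localization.AtPrime p')) j
        (LocalizedModule p'.primeCompl (LocalizedModule q.primeCompl M))) ↔
      Subsingleton (LocCoh.H (maximalIdeal (Localization.AtPrime p)) j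
        (LocalizedModule p.primeCompl M)) := by
  subst hp
  set p := p'.comap (algebraMap A (Localization.AtPrime q))
  let ψ : Localization.AtPrime p ≃ₐ[A] Localization.AtPrime p' :=
    IsLocalization.algEquiv p.primeCompl _ _
  letI : Algebra (Localization.AtPrime p) (Localization.AtPrime p') :=
    ψ.toAlgHom.toRingHom.toAlgebra
  let Y := LocalizedModule p'.primeCompl (LocalizedModule q.primeCompl M)
  letI : Module (Localization.AtPrime p) Y :=
    Module.compHom _ (algebraMap (Localization.AtPrime p) (Localization.AtPrime p'))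
  haveI : IsScalarTower (Localization.AtPrime p) (Localization.AtPrime p') Y :=
    IsScalarTower.of_algebraMap_smul fun _ _ => rfl
  haveI : IsScalarTower A (Localization.AtPrime p) Y :=
    IsScalarTower.of_algebraMap_smul fun a x => by
      show ψ (algebraMap A _ a) • x = a • x
      rw [AlgEquiv.commutes, algebraMap_smul]
  let g : M →ₗ[A] Y := ((LocalizedModule.mkLinearMap p'.primeCompl
    (LocalizedModule q.primeCompl M)).restrictScalars A).comp
      (LocalizedModule.mkLinearMap q.primeCompl M)
  have hbc : IsBaseChange (Localization.AtPrime p') g :=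
    IsBaseChange.comp (IsLocalizedModule.isBaseChange q.primeCompl (Localization.AtPrime q) _)
      (IsLocalizedModule.isBaseChange p'.primeCompl (Localization.AtPrime p') _)
  haveI : IsLocalization p.primeCompl (Localization.AtPrime p') := inferInstance
  haveI : IsLocalizedModule p.primeCompl g :=
    (isLocalizedModule_iff_isBaseChange p.primeCompl (Localization.AtPrime p') g).2 hbc
  let e := (IsLocalizedModule.iso p.primeCompl g).extendScalarsOfIsLocalization p.primeCompl
    (Localization.AtPrime p)
  rw [subsingleton_H_congr (maximalIdeal (Localization.AtPrime p)) j e]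
  exact subsingleton_H_iff_of_surjective ψ.surjective Y j

/-- The dimension of `A_q / p A_q` is the height of `q` above `p`. -/
theorem ringKrullDim_quotient_localized (q : PrimeSpectrum A)
    (p' : Ideal (Localization.AtPrime q.asIdeal)) [p'.IsPrime] (p : PrimeSpectrum A)
    (hp : p.asIdeal = p'.comap (algebraMap A (Localization.AtPrime q.asIdeal))) (hpq : p ≤ q) :
    ringKrullDim (Localization.AtPrime q.asIdeal ⧸ p') =
      ((Order.height (⟨q, hpq⟩ : Set.Ici p) : ℕ∞) : WithBot ℕ∞) := by
  let P' : PrimeSpectrum (Localization.AtPrime q.asIdeal) := ⟨p', inferInstance⟩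
  rw [show ringKrullDim (Localization.AtPrime q.asIdeal ⧸ p') = _ from
    Groth.Ega4Algebra1.ringKrullDim_quotient_eq_coheight _ P']
  show ((Order.coheight P' : ℕ∞) : WithBot ℕ∞) = _
  rw [Order.coheight_eq_krullDim_Ici, Order.height_eq_krullDim_Iic]
  let e := IsLocalization.AtPrime.primeSpectrumOrderIso (Localization.AtPrime q.asIdeal) q.asIdeal
  have heP : (e P').1 = p := PrimeSpectrum.ext hp.symm
  refine Order.krullDim_eq_of_orderIso
    { toFun := fun x => ⟨⟨(e x.1).1, le_trans heP.symm.le (e.monotone x.2)⟩, (e x.1).2⟩
      invFun := fun y => ⟨e.symm ⟨y.1.1, y.2⟩, ?_⟩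
      left_inv := fun x => Subtype.ext (e.symm_apply_apply x.1)
      right_inv := fun y => by
        refine Subtype.ext (Subtype.ext ?_)
        show (e (e.symm _)).1 = y.1.1
        rw [e.apply_symm_apply]
      map_rel_iff' := e.map_rel_iff }
  show P' ≤ e.symm _
  rw [e.le_symm_apply]
  show (e P').1 ≤ y.1.1
  exact le_trans heP.le y.1.2

variable {R : Type u} [CommRing R] [IsNoetherianRing R] [Algebra R A]

/-- If `H^(j+e)` of `M_q` vanishes, so does `H^j` of `M_p`, for `e` the height of `q` above `p`. -/
theorem subsingleton_H_atPrime_of_le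
    (hR : ∀ (P : Ideal R) [P.IsPrime],
      ∃ n, InjLT (Localization.AtPrime P) (Localization.AtPrime P) n)
    (hπ : Function.Surjective (algebraMap R A)) (p q : PrimeSpectrum A) (hpq : p ≤ q) {e : ℕ}
    (he : Order.height (⟨q, hpq⟩ : Set.Ici p) = e)
    (M : Type u) [AddCommGroup M] [Module A M] [Module.Finite A M] (j : ℕ)
    (h : Subsingleton (LocCoh.H (maximalIdeal (Localization.AtPrime q.asIdeal)) (j + e)
      (LocalizedModule q.asIdeal.primeCompl M))) :
    Subsingleton (LocCoh.H (maximalIdeal (Localization.AtPrime p.asIdeal)) j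
      (LocalizedModule p.asIdeal.primeCompl M)) := by
  set Q := q.asIdeal.comap (algebraMap R A) with hQ
  set φ := Localization.localRingHom Q q.asIdeal (algebraMap R A) rfl
  letI algS : Algebra (Localization.AtPrime Q) (Localization.AtPrime q.asIdeal) := φ.toAlgebra
  have hsurj : Function.Surjective φ := by
    intro z
    obtain ⟨a, ⟨s, hs⟩, rfl⟩ := IsLocalization.exists_mk'_eq q.asIdeal.primeCompl z
    obtain ⟨a', rfl⟩ := hπ a
    obtain ⟨s', rfl⟩ := hπ s
    exact ⟨IsLocalization.mk' _ a' (⟨s', fun hs' => hs hs'⟩ : Q.primeCompl),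
      Localization.localRingHom_mk' Q q.asIdeal (algebraMap R A) rfl a' _⟩
  haveI : Module.Finite (Localization.AtPrime q.asIdeal) (LocalizedModule q.asIdeal.primeCompl M) :=
    Module.Finite.of_isLocalizedModule q.asIdeal.primeCompl
      (LocalizedModule.mkLinearMap q.asIdeal.primeCompl M)
  have hdisj : Disjoint (q.asIdeal.primeCompl : Set A) p.asIdeal :=
    Set.disjoint_left.2 fun x hx hxp => hx (hpq hxp)
  set p' := p.asIdeal.map (algebraMap A (Localization.AtPrime q.asIdeal))
  haveI : p'.IsPrime := IsLocalization.isPrime_of_isPrime_disjoint q.asIdeal.primeCompl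
    (Localization.AtPrime q.asIdeal) p.asIdeal p.isPrime hdisj
  have hp : p.asIdeal = p'.comap (algebraMap A (Localization.AtPrime q.asIdeal)) :=
    (IsLocalization.under_map_of_isPrime_disjoint q.asIdeal.primeCompl _ p.isPrime hdisj).symm
  have hann : (⊤ : Ideal (Localization.AtPrime q.asIdeal)) ≤ (Module.annihilator _
      (LocCoh.H (maximalIdeal (Localization.AtPrime q.asIdeal)) (j + e)
        (LocalizedModule q.asIdeal.primeCompl M))).radical := by
    rw [Module.annihilator_eq_top_iff.2 h, Ideal.radical_top]
  have key := (le_radical_annihilator_H_iff (R := Localization.AtPrime Q) (hR Q) hsurj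
    (LocalizedModule q.asIdeal.primeCompl M) ⊤ (j + e)).1 hann p'
    (fun hle => Ideal.IsPrime.ne_top inferInstance (top_le_iff.1 hle)) e j
    (by rw [ringKrullDim_quotient_localized q p' p hp hpq, he]; rfl) rfl
  exact (subsingleton_H_localized_localized q.asIdeal p' p.asIdeal hp M j).1 key

end Groth.LocDual
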