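import Groth.Agent.LocDual.Criterion

/-!
`dim S/I + ht I = dim S` in a local Cohen–Macaulay ring.
-/

set_option autoImplicit false
universe u

open IsLocalRing

namespace Groth.LocDual

variable {A : Type u} [CommRing A] [IsLocalRing A] [IsNoetherianRing A]

/-- `dim A/I + ht I = dim A` for a Cohen–Macaulay local ring. -/
theorem height_add_ringKrullDim_quotient (hA : LocCoh.IsCohenMacaulayLocalRing A) {r g d : ℕ}
    (hr : ringKrullDim A = r) (I : Ideal A) (hI : I ≤ maximalIdeal A) (hg : I.height = g)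
    (hd : ringKrullDim (A ⧸ I) = d) : g + d = r := by
  have key : ∀ P : PrimeSpectrum A, I ≤ P.asIdeal → ∃ h e : ℕ, h + e = r ∧ g ≤ h ∧
      P.asIdeal.height = h ∧ Order.coheight P = e := by
    intro P hP
    obtain ⟨h, e, he, hh, hc⟩ := exists_dim_split hA hr P.asIdeal
    rw [IsLocalization.AtPrime.ringKrullDim_eq_height P.asIdeal] at hh
    rw [show ringKrullDim (A ⧸ P.asIdeal) = _ from
      Groth.Ega4Algebra1.ringKrullDim_quotient_eq_coheight A P] at hc
    have hh' : P.asIdeal.height = h := WithBot.coe_injective hh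
    refine ⟨h, e, he, ?_, hh', WithBot.coe_injective hc⟩
    have := Ideal.height_mono hP
    rw [hg, hh'] at this
    exact_mod_cast this
  obtain ⟨P₀, hP₀, hP₀g⟩ : ∃ P : PrimeSpectrum A, I ≤ P.asIdeal ∧ P.asIdeal.height = g := by
    haveI : Nonempty I.minimalPrimes := by
      obtain ⟨q, hq, -⟩ := Ideal.exists_minimalPrimes_le hI
      exact ⟨⟨q, hq⟩⟩
    obtain ⟨⟨Q, hQ⟩, hQh⟩ := ENat.exists_eq_iInf fun Q : I.minimalPrimes => Q.1.height
    refine ⟨⟨Q, hQ.1.1⟩, hQ.1.2, ?_⟩
    have h1 : Q.height = ⨅ V ∈ I.minimalPrimes, V.height :=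
      hQh.trans (iInf_subtype'' I.minimalPrimes fun V => V.height)
    show Q.height = g
    rw [h1, ← Ideal.height_eq_inf_minimalPrimes, hg]
  obtain ⟨h, e, he, hgh, hh, hc⟩ := key P₀ hP₀
  have hhg : h = g := by
    rw [hh] at hP₀g
    exact_mod_cast hP₀g
  have hle : (e : WithBot ℕ∞) ≤ d := by
    rw [← hd]
    refine le_trans ?_ (ringKrullDim_le_of_surjective _ (Ideal.Quotient.factor_surjective hP₀))
    rw [show ringKrullDim (A ⧸ P₀.asIdeal) = _ from
      Groth.Ega4Algebra1.ringKrullDim_quotient_eq_coheight A P₀, hc]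
    rfl
  have hle' : e ≤ d := by exact_mod_cast hle
  have hge : d ≤ e := by
    by_contra hcon
    have h1 : ((e + 1 : ℕ) : WithBot ℕ∞) ≤ ringKrullDim (A ⧸ I) := by
      rw [hd]
      exact_mod_cast (by omega : e + 1 ≤ d)
    rw [ringKrullDim_quotient] at h1
    obtain ⟨l, hl⟩ := (Order.le_krullDim_iff (n := e + 1)).1 h1
    have hw : I ≤ l.head.1.asIdeal :=
      SetLike.coe_subset_coe.1 ((PrimeSpectrum.mem_zeroLocus _ _).1 l.head.2)
    have hco : ((e + 1 : ℕ) : ℕ∞) ≤ Order.coheight l.head.1 := by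
      rw [← hl]
      exact Order.length_le_coheight (p := l.map Subtype.val fun _ _ h => h) le_rfl
    obtain ⟨h', e', he', hgh', -, hc'⟩ := key _ hw
    rw [hc'] at hco
    have hee : e + 1 ≤ e' := by exact_mod_cast hco
    omega
  omega

end Groth.LocDual
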