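import Groth.Agent.Matlis.Duality
import Mathlib.RingTheory.Filtration

/-!
A finite module over a Noetherian local ring is determined by its Matlis dual.
-/

set_option autoImplicit false
universe u

open IsLocalRing InjHull
open scoped Pointwise

namespace Groth.LocDual

variable {R : Type u} [CommRing R]

section Lift

variable {K K' : Type u} [AddCommGroup K] [Module R K] [AddCommGroup K'] [Module R K']

/-- A value of `J • ⊤` on a linear map lies in `J • ⊤`. -/
lemma map_mem_smul_top (J : Ideal R) (L : K →ₗ[R] K') {x : K}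
    (hx : x ∈ J • (⊤ : Submodule R K)) : L x ∈ J • (⊤ : Submodule R K') := by
  have h := Submodule.mem_map_of_mem (f := L) hx
  rw [Submodule.map_smul''] at h
  exact Submodule.smul_mono le_rfl le_top h

/-- A tuple with all entries in `J • ⊤` lies in `J • ⊤`. -/
lemma pi_mem_smul_top {a : ℕ} (J : Ideal R) (x : Fin a → K')
    (hx : ∀ j, x j ∈ J • (⊤ : Submodule R K')) : x ∈ J • (⊤ : Submodule R (Fin a → K')) := by
  classical
  rw [← LinearMap.sum_single_apply (φ := fun _ => K') x]
  exact Submodule.sum_mem _ fun j _ => map_mem_smul_top J (LinearMap.single R (fun _ => K') j) (hx j)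

variable [IsNoetherianRing R] [IsLocalRing R] [Module.Finite R K] [Module.Finite R K']

/-- Surjections on all the truncations lift to a surjection. -/
theorem exists_surjective_of_quotient
    (h : ∀ N : ℕ, ∃ θ : K →ₗ[R] K' ⧸ (maximalIdeal R ^ N • ⊤ : Submodule R K'),
      Function.Surjective θ) : ∃ ψ : K →ₗ[R] K', Function.Surjective ψ := by
  obtain ⟨b, g, hg⟩ := Module.Finite.exists_fin' R K
  obtain ⟨a, r, hr⟩ := Submodule.fg_iff_exists_fin_generating_family.1
    (IsNoetherian.noetherian (LinearMap.ker g))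
  let T : ((Fin b → R) →ₗ[R] K') →ₗ[R] (Fin a → K') :=
    LinearMap.pi fun j => LinearMap.applyₗ (r j)
  haveI : Module.Finite R (Fin a → K') := inferInstance
  obtain ⟨c, hc⟩ := (maximalIdeal R).exists_pow_inf_eq_pow_smul (LinearMap.range T)
  obtain ⟨θ, hθ⟩ := h (c + 1)
  obtain ⟨v, hv⟩ := Module.projective_lifting_property
    (maximalIdeal R ^ (c + 1) • ⊤ : Submodule R K').mkQ (θ ∘ₗ g) (Submodule.mkQ_surjective _)
  have hTv : T v ∈ maximalIdeal R ^ (c + 1) • (⊤ : Submodule R (Fin a → K')) ⊓ LinearMap.range T := by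
    refine ⟨pi_mem_smul_top _ _ fun j => ?_, LinearMap.mem_range_self T v⟩
    rw [← Submodule.Quotient.mk_eq_zero]
    refine (LinearMap.congr_fun hv (r j)).trans ?_
    rw [LinearMap.comp_apply, show g (r j) = 0 from
      LinearMap.mem_ker.1 (hr ▸ Submodule.subset_span (Set.mem_range_self j)), map_zero]
  rw [hc (c + 1) (Nat.le_succ c), Nat.add_sub_cancel_left, pow_one] at hTv
  have hle : maximalIdeal R • (maximalIdeal R ^ c • (⊤ : Submodule R (Fin a → K')) ⊓
      LinearMap.range T) ≤ Submodule.map T (maximalIdeal R • ⊤) := by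
    rw [Submodule.map_smul'', Submodule.map_top]
    exact Submodule.smul_mono le_rfl inf_le_right
  obtain ⟨w, hw, hTw⟩ := hle hTv
  have hker : LinearMap.ker g ≤ LinearMap.ker (v - w) := by
    rw [← hr, Submodule.span_le]
    rintro _ ⟨j, rfl⟩
    show (v - w) (r j) = 0
    rw [LinearMap.sub_apply, sub_eq_zero]
    exact (congrFun hTw j).symm
  let ψ : K →ₗ[R] K' :=
    (LinearMap.ker g).liftQ (v - w) hker ∘ₗ (g.quotKerEquivOfSurjective hg).symm.toLinearMap
  have hψ : ∀ x, ψ (g x) = v x - w x := fun x => by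
    show (LinearMap.ker g).liftQ (v - w) hker ((g.quotKerEquivOfSurjective hg).symm (g x)) = _
    rw [show (g.quotKerEquivOfSurjective hg).symm (g x) = Submodule.Quotient.mk x from
      (g.quotKerEquivOfSurjective hg).symm_apply_eq.2 rfl]
    rfl
  refine ⟨ψ, LinearMap.range_eq_top.1 (top_le_iff.1 ?_)⟩
  refine Submodule.le_of_le_smul_of_le_jacobson_bot (Module.Finite.fg_top (R := R) (M := K'))
    (IsLocalRing.maximalIdeal_le_jacobson ⊥) fun y _ => ?_
  obtain ⟨z, hz⟩ := hθ (Submodule.Quotient.mk y)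
  obtain ⟨x, rfl⟩ := hg z
  have h1 : y - v x ∈ maximalIdeal R ^ (c + 1) • (⊤ : Submodule R K') := by
    rw [← Submodule.Quotient.eq]
    exact hz.symm.trans (LinearMap.congr_fun hv x).symm
  have h2 : y - v x ∈ maximalIdeal R • (⊤ : Submodule R K') :=
    Submodule.smul_mono (Ideal.pow_le_self (Nat.succ_ne_zero c)) le_rfl h1
  refine Submodule.mem_sup.2 ⟨ψ (g x), LinearMap.mem_range_self ψ _, (y - v x) + w x,
    add_mem h2 (map_mem_smul_top _ (LinearMap.applyₗ x) hw), ?_⟩
  rw [hψ]
  abel

end Lift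

variable [IsNoetherianRing R] [IsLocalRing R] {E : Type u} [AddCommGroup E] [Module R E]
  {K K' : Type u} [AddCommGroup K] [Module R K] [Module.Finite R K] [AddCommGroup K'] [Module R K']
  [Module.Finite R K']

omit [IsNoetherianRing R] [IsLocalRing R] [Module.Finite R K] in
/-- The maps from a quotient `K ⧸ J K` are the maps killed by `J`. -/
lemma mem_range_lcomp_mkQ {J : Ideal R} {φ : K →ₗ[R] E} :
    φ ∈ LinearMap.range (LinearMap.lcomp R E (J • ⊤ : Submodule R K).mkQ) ↔ ∀ r ∈ J, r • φ = 0 := by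
  constructor
  · rintro ⟨χ, rfl⟩ r hr
    refine LinearMap.ext fun x => ?_
    show r • χ ((J • ⊤ : Submodule R K).mkQ x) = 0
    rw [← map_smul, ← map_smul, Submodule.mkQ_apply,
      (Submodule.Quotient.mk_eq_zero _).2 (Submodule.smul_mem_smul hr Submodule.mem_top), map_zero]
  · intro h
    refine ⟨(J • ⊤ : Submodule R K).liftQ φ ?_, LinearMap.ext fun x => rfl⟩
    rw [Submodule.smul_le]
    intro r hr x _
    rw [LinearMap.mem_ker, map_smul]
    exact LinearMap.congr_fun (h r hr) x

omit [IsNoetherianRing R] [IsLocalRing R] in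
lemma lcomp_mkQ_injective (J : Ideal R) :
    Function.Injective (LinearMap.lcomp R E (J • ⊤ : Submodule R K).mkQ) :=
  LinearMap.lcomp_injective_of_surjective _ (Submodule.mkQ_surjective _)

/-- The truncations are of finite length. -/
lemma isFiniteLength_quotient_smul_top (N : ℕ) :
    IsFiniteLength R (K ⧸ (maximalIdeal R ^ N • ⊤ : Submodule R K)) := by
  classical
  obtain ⟨b, g, hg⟩ := Module.Finite.exists_fin' R (K ⧸ (maximalIdeal R ^ N • ⊤ : Submodule R K))
  have hkill : ∀ r ∈ maximalIdeal R ^ N, ∀ z : K ⧸ (maximalIdeal R ^ N • ⊤ : Submodule R K),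
      r • z = 0 := by
    intro r hr z
    obtain ⟨z, rfl⟩ := Submodule.mkQ_surjective _ z
    exact (Submodule.Quotient.mk_eq_zero _).2 (Submodule.smul_mem_smul hr Submodule.mem_top)
  let L : (Fin b → R ⧸ maximalIdeal R ^ N) →ₗ[R] _ := LinearMap.lsum R _ R fun j =>
    (maximalIdeal R ^ N).liftQ (LinearMap.toSpanSingleton R _ (g (Pi.single j 1)))
      fun r hr => hkill r hr _
  have hL : Function.Surjective L := fun z => by
    obtain ⟨x, rfl⟩ := hg z
    refine ⟨fun j => Ideal.Quotient.mk _ (x j), ?_⟩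
    conv_rhs => rw [show x = ∑ j, x j • Pi.single (M := fun _ => R) j 1 by
      ext i; simp [Pi.single_apply]]
    rw [map_sum]
    show (LinearMap.lsum R _ R _) (fun j => Ideal.Quotient.mk _ (x j)) = _
    rw [LinearMap.lsum_apply, LinearMap.sum_apply]
    refine Finset.sum_congr rfl fun j _ => ?_
    rw [map_smul]
    rfl
  obtain ⟨hn, ha⟩ := isFiniteLength_iff_isNoetherian_isArtinian.1
    (GrothMatlis.isFiniteLength_quotient_pow (R := R) N)
  haveI := hn
  haveI := ha
  exact isFiniteLength_iff_isNoetherian_isArtinian.2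
    ⟨isNoetherian_of_surjective L (LinearMap.range_eq_top.2 hL), isArtinian_of_surjective _ L hL⟩

/-- Finite modules with isomorphic Matlis duals are isomorphic. -/
theorem nonempty_equiv_of_dual_equiv {f : ResidueField R →ₗ[R] E} (hf : IsInjectiveHull f)
    (e : (K →ₗ[R] E) ≃ₗ[R] (K' →ₗ[R] E)) : Nonempty (K ≃ₗ[R] K') := by
  have key : ∀ N : ℕ, Nonempty ((K ⧸ (maximalIdeal R ^ N • ⊤ : Submodule R K)) ≃ₗ[R]
      (K' ⧸ (maximalIdeal R ^ N • ⊤ : Submodule R K'))) := by
    intro N
    set J := maximalIdeal R ^ N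
    have hmap : (LinearMap.range (LinearMap.lcomp R E (J • ⊤ : Submodule R K).mkQ)).map
        (e : (K →ₗ[R] E) →ₗ[R] (K' →ₗ[R] E)) =
        LinearMap.range (LinearMap.lcomp R E (J • ⊤ : Submodule R K').mkQ) := by
      refine le_antisymm ?_ fun φ hφ => ?_
      · rintro _ ⟨φ, hφ, rfl⟩
        refine mem_range_lcomp_mkQ.2 fun r hr => ?_
        show r • e φ = 0
        rw [← map_smul, mem_range_lcomp_mkQ.1 hφ r hr, map_zero]
      · refine ⟨e.symm φ, mem_range_lcomp_mkQ.2 fun r hr => ?_, e.apply_symm_apply φ⟩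
        rw [← map_smul, mem_range_lcomp_mkQ.1 hφ r hr, map_zero]
    let eq := (LinearEquiv.ofInjective _ (lcomp_mkQ_injective (E := E) (K := K) J)).trans
      ((e.submoduleMap _).trans ((LinearEquiv.ofEq _ _ hmap).trans
        (LinearEquiv.ofInjective _ (lcomp_mkQ_injective (E := E) (K := K') J)).symm))
    exact ⟨(LinearEquiv.ofBijective _ (GrothMatlis.applyₗ_bijective_of_isFiniteLength hf
        (isFiniteLength_quotient_smul_top N))).trans
      ((LinearEquiv.congrLeft (M := E) (S := R) eq).trans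
        (LinearEquiv.ofBijective _ (GrothMatlis.applyₗ_bijective_of_isFiniteLength hf
          (isFiniteLength_quotient_smul_top N))).symm)⟩
  obtain ⟨ψ, hψ⟩ := exists_surjective_of_quotient (K := K) (K' := K') fun N => by
    obtain ⟨θ⟩ := key N
    exact ⟨θ.toLinearMap ∘ₗ (maximalIdeal R ^ N • ⊤ : Submodule R K).mkQ,
      θ.surjective.comp (Submodule.mkQ_surjective _)⟩
  obtain ⟨φ, hφ⟩ := exists_surjective_of_quotient (K := K') (K' := K) fun N => by
    obtain ⟨θ⟩ := key N
    exact ⟨θ.symm.toLinearMap ∘ₗ (maximalIdeal R ^ N • ⊤ : Submodule R K').mkQ,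
      θ.symm.surjective.comp (Submodule.mkQ_surjective _)⟩
  have hinj : Function.Injective (φ ∘ₗ ψ) :=
    OrzechProperty.injective_of_surjective_endomorphism _ (hφ.comp hψ)
  exact ⟨LinearEquiv.ofBijective ψ ⟨fun x y h => hinj (congrArg φ h), hψ⟩⟩

end Groth.LocDual
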