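import Groth.Agent.LocDual.Top
import Groth.Agent.LocCohBase.ExtBridge
import Groth.Agent.LocCohBase.Cd

/-!
Local duality for finite modules over a local ring of finite self-injective dimension:
`H^i_m(M) ≅ Hom(Ext^j(M,A), E)` for `i + j = dim A`.
-/

set_option autoImplicit false
universe u

open CategoryTheory IsLocalRing InjHull GrothGoren Groth.LocCohBase Groth.LocCohTransform Opposite

namespace Groth.LocDual

variable {A : Type u} [CommRing A] [IsLocalRing A]

/-- Shorthand for `H^i_m(M)`. -/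
noncomputable abbrev Hm (i : ℕ) (M : Type u) [AddCommGroup M] [Module A M] : ModuleCat.{u} A :=
  HH' (maximalIdeal A) i (ModuleCat.of A M)

/-- Functoriality of `Hm`. -/
noncomputable def Hmap (i : ℕ) {M N : Type u} [AddCommGroup M] [Module A M] [AddCommGroup N]
    [Module A N] (g : M →ₗ[A] N) : Hm (A := A) i M →ₗ[A] Hm (A := A) i N :=
  ((localCohomology (maximalIdeal A) i).map (ModuleCat.ofHom g)).hom

variable {M N P : Type u} [AddCommGroup M] [Module A M] [AddCommGroup N] [Module A N]
  [AddCommGroup P] [Module A P]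

lemma Hmap_id (i : ℕ) (x : Hm (A := A) i M) : Hmap i (LinearMap.id : M →ₗ[A] M) x = x :=
  map_id' _ i _ x

lemma Hmap_comp (i : ℕ) (g : M →ₗ[A] N) (h : N →ₗ[A] P) (x : Hm (A := A) i M) :
    Hmap i (h ∘ₗ g) x = Hmap i h (Hmap i g x) :=
  map_comp' _ i (ModuleCat.ofHom g) (ModuleCat.ofHom h) x

lemma Hmap_add (i : ℕ) (g h : M →ₗ[A] N) (x : Hm (A := A) i M) :
    Hmap i (g + h) x = Hmap i g x + Hmap i h x :=
  map_add' _ i (ModuleCat.ofHom g) (ModuleCat.ofHom h) x

lemma Hmap_zero (i : ℕ) (x : Hm (A := A) i M) : Hmap i (0 : M →ₗ[A] N) x = 0 :=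
  map_zero' _ i x

lemma Hmap_smul (i : ℕ) (a : A) (g : M →ₗ[A] N) (x : Hm (A := A) i M) :
    Hmap i (a • g) x = a • Hmap i g x := by
  rw [show a • g = (a • LinearMap.id) ∘ₗ g by ext; rfl, Hmap_comp]
  exact (smul_eq_map i (ModuleCat.of A N) a _).symm

lemma Hmap_sum (i : ℕ) {ι : Type*} (s : Finset ι) (g : ι → (M →ₗ[A] N)) (x : Hm (A := A) i M) :
    Hmap i (∑ j ∈ s, g j) x = ∑ j ∈ s, Hmap i (g j) x := by
  classical
  induction s using Finset.induction_on with
  | empty => simp [Hmap_zero]
  | insert a s ha ih => rw [Finset.sum_insert ha, Hmap_add, ih, Finset.sum_insert ha]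

section Pairing

variable {E : Type u} [AddCommGroup E] [Module A E] (r : ℕ) (e : Hm (A := A) r A →ₗ[A] E)

/-- The pairing `H^r_m(M) → Hom(Hom(M,A),E)`. -/
noncomputable def Θ (M : Type u) [AddCommGroup M] [Module A M] :
    Hm (A := A) r M →ₗ[A] ((M →ₗ[A] A) →ₗ[A] E) :=
  LinearMap.mk₂ A (fun x φ => e (Hmap r φ x))
    (fun x y φ => by simp) (fun a x φ => by simp)
    (fun x φ ψ => by rw [Hmap_add, map_add])
    (fun a x φ => by rw [Hmap_smul, map_smul])

@[simp] lemma Θ_apply (x : Hm (A := A) r M) (φ : M →ₗ[A] A) : Θ r e M x φ = e (Hmap r φ x) := rfl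

lemma Θ_natural (g : M →ₗ[A] N) (x : Hm (A := A) r M) (φ : N →ₗ[A] A) :
    Θ r e N (Hmap r g x) φ = Θ r e M x (φ ∘ₗ g) := by
  rw [Θ_apply, Θ_apply, Hmap_comp]

lemma Θ_bijective_pi (he : Function.Bijective e) (n : ℕ) :
    Function.Bijective (Θ r e (Fin n → A)) := by
  classical
  have hid : ∑ j, LinearMap.single A (fun _ : Fin n => A) j ∘ₗ LinearMap.proj j =
      (LinearMap.id : (Fin n → A) →ₗ[A] (Fin n → A)) := by
    refine LinearMap.ext fun v => ?_
    funext k
    simp [LinearMap.sum_apply, Finset.sum_apply, Pi.single_apply]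
  constructor
  · rw [injective_iff_map_eq_zero]
    intro x hx
    rw [← Hmap_id r x, ← hid, Hmap_sum]
    refine Finset.sum_eq_zero fun j _ => ?_
    rw [Hmap_comp]
    have h0 : Hmap r (LinearMap.proj (R := A) (φ := fun _ : Fin n => A) j) x = 0 := he.1 (by
      rw [map_zero, ← Θ_apply, hx, LinearMap.zero_apply])
    rw [h0, map_zero]
  · intro ψ
    choose y hy using fun j : Fin n => he.2 (ψ (LinearMap.proj j))
    refine ⟨∑ j, Hmap r (LinearMap.single A (fun _ : Fin n => A) j) (y j), LinearMap.ext fun φ => ?_⟩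
    have hφ : φ = ∑ j, φ (Pi.single j 1) • LinearMap.proj j := by
      refine LinearMap.ext fun v => ?_
      conv_lhs => rw [← LinearMap.id_apply (R := A) v, ← hid]
      rw [LinearMap.sum_apply, map_sum, LinearMap.sum_apply]
      refine Finset.sum_congr rfl fun j _ => ?_
      rw [LinearMap.comp_apply, LinearMap.smul_apply, LinearMap.coe_proj, Function.eval,
        LinearMap.coe_single, smul_eq_mul, mul_comm, ← smul_eq_mul, ← map_smul]
      congr 1
      rw [← Pi.single_smul, smul_eq_mul, mul_one]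
    rw [map_sum, LinearMap.sum_apply]
    conv_rhs => rw [hφ, map_sum]
    refine Finset.sum_congr rfl fun j _ => ?_
    rw [Θ_natural, Θ_apply, map_smul, ← hy j, ← map_smul, ← Hmap_id r (y j), ← Hmap_smul,
      Hmap_id]
    congr 2
    congr 1
    refine LinearMap.ext_ring ?_
    simp

end Pairing

section Finite

variable [IsNoetherianRing A] {E : Type u} [AddCommGroup E] [Module A E] {r : ℕ}
  (hdim : ringKrullDim A = r) (hE : Module.Injective A E) (e : Hm (A := A) r A →ₗ[A] E)
  (he : Function.Bijective e)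

include hdim in
lemma Hmap_surjective {g : N →ₗ[A] M} (hg : Function.Surjective g) :
    Function.Surjective (Hmap (A := A) r g) := by
  have hS := seqCx_shortExact (LinearMap.ker g).subtype g (LinearMap.exact_subtype_ker_map g)
    (Submodule.injective_subtype _) hg
  exact fun x => (exact₃ hS r x).1
    ((cdLE_of_dim_le (maximalIdeal A) r (le_of_eq hdim) (LinearMap.ker g) (r + 1)
      (Nat.lt_succ_self r)).elim _ _)

include hdim hE he in
theorem Θ_surjective (M : Type u) [AddCommGroup M] [Module A M] [Module.Finite A M] :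
    Function.Surjective (Θ r e M) := by
  obtain ⟨n, g, hg⟩ := Module.Finite.exists_fin' A M
  intro ψ
  obtain ⟨ψ', hψ'⟩ := hE.out (LinearMap.lcomp A A g)
    (LinearMap.lcomp_injective_of_surjective g hg) ψ
  obtain ⟨x, hx⟩ := (Θ_bijective_pi r e he n).2 ψ'
  refine ⟨Hmap r g x, LinearMap.ext fun φ => ?_⟩
  rw [Θ_natural, hx]
  exact hψ' φ

include hdim hE he in
theorem Θ_bijective (M : Type u) [AddCommGroup M] [Module A M] [Module.Finite A M] :
    Function.Bijective (Θ r e M) := by
  refine ⟨?_, Θ_surjective hdim hE e he M⟩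
  obtain ⟨n, g, hg⟩ := Module.Finite.exists_fin' A M
  rw [injective_iff_map_eq_zero]
  intro x hx
  obtain ⟨x', rfl⟩ := Hmap_surjective hdim hg x
  set inc := (LinearMap.ker g).subtype
  set res := LinearMap.lcomp A A inc
  -- `Θ x'` only depends on the restriction to the kernel
  have hker : LinearMap.ker res ≤ LinearMap.ker (Θ r e _ x') := by
    intro φ hφ
    have hle : LinearMap.ker g ≤ LinearMap.ker φ := fun v hv =>
      LinearMap.congr_fun (show res φ = 0 from hφ) ⟨v, hv⟩
    obtain ⟨φ', hφ'⟩ : ∃ φ' : M →ₗ[A] A, φ' ∘ₗ g = φ := by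
      refine ⟨(LinearMap.ker g).liftQ φ hle ∘ₗ
        (g.quotKerEquivOfSurjective hg).symm.toLinearMap, LinearMap.ext fun v => ?_⟩
      show (LinearMap.ker g).liftQ φ hle ((g.quotKerEquivOfSurjective hg).symm (g v)) = φ v
      rw [show (g.quotKerEquivOfSurjective hg).symm (g v) = Submodule.Quotient.mk v from
        (g.quotKerEquivOfSurjective hg).symm_apply_eq.2 rfl]
      rfl
    rw [LinearMap.mem_ker, ← hφ', ← Θ_natural, hx, LinearMap.zero_apply]
  have hqinj : Function.Injective ((LinearMap.ker res).liftQ res le_rfl) := by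
    rw [← LinearMap.ker_eq_bot]
    exact Submodule.ker_liftQ_eq_bot _ _ _ le_rfl
  obtain ⟨ψ, hψ⟩ := (GrothMatlis.baer hE).extension_property
    ((LinearMap.ker res).liftQ res le_rfl) hqinj ((LinearMap.ker res).liftQ _ hker)
  obtain ⟨y, hy⟩ := Θ_surjective hdim hE e he (LinearMap.ker g) ψ
  have h1 : Hmap r inc y = x' := (Θ_bijective_pi r e he n).1 <| LinearMap.ext fun φ => by
    rw [Θ_natural, hy]
    exact LinearMap.congr_fun hψ (Submodule.Quotient.mk φ)
  rw [← h1, ← Hmap_comp, show g ∘ₗ inc = 0 from g.comp_ker_subtype, Hmap_zero]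

end Finite

section Shift

omit [IsLocalRing A]

variable {M K F : Type u} [AddCommGroup M] [Module A M] [AddCommGroup K] [Module A K]
  [AddCommGroup F] [Module A F] {inc : K →ₗ[A] F} {g : F →ₗ[A] M}
  (hex : Function.Exact inc g) (hinc : Function.Injective inc) (hg : Function.Surjective g)

/-- The connecting map `Ext^j(K,A) → Ext^(j+1)(M,A)`. -/
noncomputable def extShift (j : ℕ) :
    Abelian.Ext (ModuleCat.of A K) (ModuleCat.of A A) j →ₗ[A]
      Abelian.Ext (ModuleCat.of A M) (ModuleCat.of A A) (j + 1) :=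
  (seqCx_shortExact inc g hex hinc hg).extClass.precompOfLinear A _ (Nat.add_comm 1 j)

/-- The connecting map `Hom(K,A) → Ext^1(M,A)`. -/
noncomputable def extShift₀ :
    (K →ₗ[A] A) →ₗ[A] Abelian.Ext (ModuleCat.of A M) (ModuleCat.of A A) 1 :=
  extShift hex hinc hg 0 ∘ₗ
    (Abelian.Ext.linearEquiv₀ (R := A)).symm.toLinearMap ∘ₗ
      (ModuleCat.homLinearEquiv (S := A) (M := ModuleCat.of A K) (N := ModuleCat.of A A)).symm.toLinearMap

lemma extShift₀_apply (φ : K →ₗ[A] A) :
    extShift₀ hex hinc hg φ = (seqCx_shortExact inc g hex hinc hg).extClass.comp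
      (Abelian.Ext.mk₀ (ModuleCat.ofHom φ)) (add_zero 1) := rfl

lemma extShift₀_surjective [Module.Projective A F] : Function.Surjective (extShift₀ hex hinc hg) := by
  intro x
  obtain ⟨y, hy⟩ := Abelian.Ext.contravariant_sequence_exact₃ (seqCx_shortExact inc g hex hinc hg)
    (ModuleCat.of A A) x (Subsingleton.elim (h := extZ_of_projective) _ _) (n₀ := 0) rfl
  obtain ⟨h, rfl⟩ := (Abelian.Ext.mk₀_bijective _ _).2 y
  exact ⟨h.hom, hy⟩

lemma extShift₀_eq_zero_iff (φ : K →ₗ[A] A) :
    extShift₀ hex hinc hg φ = 0 ↔ ∃ h : F →ₗ[A] A, h ∘ₗ inc = φ := by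
  rw [extShift₀_apply]
  constructor
  · intro h0
    obtain ⟨y, hy⟩ := Abelian.Ext.contravariant_sequence_exact₁
      (seqCx_shortExact inc g hex hinc hg) (ModuleCat.of A A) _ (add_zero 1) h0
    obtain ⟨h, rfl⟩ := (Abelian.Ext.mk₀_bijective _ _).2 y
    rw [Abelian.Ext.mk₀_comp_mk₀] at hy
    exact ⟨h.hom, congrArg ModuleCat.Hom.hom ((Abelian.Ext.mk₀_bijective _ _).1 hy)⟩
  · rintro ⟨h, rfl⟩
    have h1 : Abelian.Ext.mk₀ (ModuleCat.ofHom (h ∘ₗ inc)) =
        (Abelian.Ext.mk₀ (seqCx inc g hex).f).comp (Abelian.Ext.mk₀ (ModuleCat.ofHom h))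
          (add_zero 0) := (Abelian.Ext.mk₀_comp_mk₀ _ _).symm
    rw [h1, ← Abelian.Ext.comp_assoc (a₁₂ := 1) (a₂₃ := 0) _ _ _ (add_zero 1) (add_zero 0)
      (by omega), (seqCx_shortExact inc g hex hinc hg).extClass_comp, Abelian.Ext.zero_comp]

lemma extShift_bijective [Module.Projective A F] (j : ℕ) :
    Function.Bijective (extShift hex hinc hg (j + 1)) := by
  have hS := seqCx_shortExact inc g hex hinc hg
  constructor
  · rw [injective_iff_map_eq_zero]
    intro y hy
    obtain ⟨z, rfl⟩ := Abelian.Ext.contravariant_sequence_exact₁ hS (ModuleCat.of A A) y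
      (Nat.add_comm 1 (j + 1)) hy
    rw [Subsingleton.elim (h := extZ_of_projective) z 0, Abelian.Ext.comp_zero]
  · intro x
    obtain ⟨y, hy⟩ := Abelian.Ext.contravariant_sequence_exact₃ hS (ModuleCat.of A A) x
      (Subsingleton.elim (h := extZ_of_projective) _ _) (Nat.add_comm 1 (j + 1))
    exact ⟨y, hy⟩

end Shift

variable [IsNoetherianRing A]

/-- Local duality, for the `Abelian.Ext` groups. -/
theorem nonempty_duality {r : ℕ} (hdim : ringKrullDim A = r)
    (hvan : ∀ i, i < r → Subsingleton (Hm (A := A) i A))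
    {E : Type u} [AddCommGroup E] [Module A E] (hE : Module.Injective A E)
    (e : Hm (A := A) r A →ₗ[A] E) (he : Function.Bijective e) :
    ∀ (j : ℕ) (M : Type u) [AddCommGroup M] [Module A M] [Module.Finite A M] (i : ℕ), i + j = r →
      Nonempty (Hm (A := A) i M ≃ₗ[A]
        (Abelian.Ext (ModuleCat.of A M) (ModuleCat.of A A) j →ₗ[A] E)) := by
  intro j
  induction j with
  | zero =>
    intro M _ _ _ i hi
    obtain rfl : r = i := by omega
    exact ⟨(LinearEquiv.ofBijective _ (Θ_bijective hdim hE e he M)).trans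
      (LinearEquiv.congrLeft (M := E) A
        ((Abelian.Ext.linearEquiv₀ (R := A)).trans
          (ModuleCat.homLinearEquiv (S := A) (M := ModuleCat.of A M) (N := ModuleCat.of A A))).symm)⟩
  | succ j ih =>
    intro M _ _ _ i hi
    obtain ⟨n, g, hg⟩ := Module.Finite.exists_fin' A M
    set inc := (LinearMap.ker g).subtype with hincdef
    have hex : Function.Exact inc g := LinearMap.exact_subtype_ker_map g
    have hinc : Function.Injective inc := Submodule.injective_subtype _
    have hS := seqCx_shortExact inc g hex hinc hg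
    have hF : ∀ k, k < r → Subsingleton (Hm (A := A) k (Fin n → A)) := fun k hk =>
      subsingleton_H_pi _ k (hvan k hk) n
    let dlt : Hm (A := A) i M →ₗ[A] Hm (A := A) (i + 1) (LinearMap.ker g) := δ hS i
    have hδ : Function.Injective dlt := by
      rw [injective_iff_map_eq_zero]
      intro x hx
      obtain ⟨y, rfl⟩ := (exact₃ hS i x).1 hx
      haveI := hF i (by omega)
      rw [Subsingleton.elim (y : Hm (A := A) i (Fin n → A)) 0, map_zero]
    obtain ⟨D⟩ := ih (LinearMap.ker g) (i + 1) (by omega)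
    cases j with
    | succ j =>
      have hδs : Function.Surjective dlt := fun y => (exact₁ hS i y).1
        ((hF (i + 1) (by omega)).elim _ _)
      exact ⟨(LinearEquiv.ofBijective dlt ⟨hδ, hδs⟩).trans (D.trans
        (LinearEquiv.congrLeft (M := E) A
          (LinearEquiv.ofBijective _ (extShift_bijective hex hinc hg j))))⟩
    | zero =>
      obtain rfl : r = i + 1 := by omega
      set θK := LinearEquiv.ofBijective _ (Θ_bijective hdim hE e he (LinearMap.ker g))
      set d₀ := extShift₀ hex hinc hg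
      have hd₀ : Function.Surjective d₀ := extShift₀_surjective hex hinc hg
      let L : (Abelian.Ext (ModuleCat.of A M) (ModuleCat.of A A) (0 + 1) →ₗ[A] E) →ₗ[A]
          Hm (A := A) (i + 1) (LinearMap.ker g) :=
        θK.symm.toLinearMap ∘ₗ LinearMap.lcomp A E d₀
      have hL : Function.Injective L := fun u v h =>
        LinearMap.lcomp_injective_of_surjective d₀ hd₀ (θK.symm.injective h)
      have hrange : LinearMap.range dlt = LinearMap.range L := by
        ext z
        constructor
        · rintro ⟨x, rfl⟩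
          have hz : Hmap (i + 1) inc (dlt x) = 0 := (exact₁ hS i).apply_apply_eq_zero x
          have hle : LinearMap.ker d₀ ≤ LinearMap.ker (θK (dlt x)) := fun φ hφ => by
            obtain ⟨h, rfl⟩ := (extShift₀_eq_zero_iff hex hinc hg φ).1 hφ
            show Θ (i + 1) e (LinearMap.ker g) (dlt x) (h ∘ₗ inc) = 0
            rw [← Θ_natural, hz, map_zero, LinearMap.zero_apply]
          refine ⟨(LinearMap.ker d₀).liftQ _ hle ∘ₗ
            (d₀.quotKerEquivOfSurjective hd₀).symm.toLinearMap, θK.injective ?_⟩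
          rw [show θK (L _) = _ from θK.apply_symm_apply _]
          refine LinearMap.ext fun φ => ?_
          show (LinearMap.ker d₀).liftQ _ hle ((d₀.quotKerEquivOfSurjective hd₀).symm (d₀ φ)) = _
          rw [show (d₀.quotKerEquivOfSurjective hd₀).symm (d₀ φ) = Submodule.Quotient.mk φ from
            (d₀.quotKerEquivOfSurjective hd₀).symm_apply_eq.2 rfl]
          rfl
        · rintro ⟨ψ, rfl⟩
          refine (exact₁ hS i (L ψ)).1 ?_
          show Hmap (i + 1) inc (L ψ) = 0
          refine (Θ_bijective_pi (i + 1) e he n).1 ?_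
          rw [map_zero]
          refine LinearMap.ext fun h => ?_
          rw [Θ_natural, LinearMap.zero_apply]
          show θK (L ψ) (h ∘ₗ inc) = 0
          rw [show θK (L ψ) = ψ ∘ₗ d₀ from θK.apply_symm_apply _, LinearMap.comp_apply,
            (extShift₀_eq_zero_iff hex hinc hg _).2 ⟨h, rfl⟩, map_zero]
      exact ⟨(LinearEquiv.ofInjective dlt hδ).trans ((LinearEquiv.ofEq _ _ hrange).trans
        (LinearEquiv.ofInjective L hL).symm)⟩

/-- Local duality, packaged from finite self-injective dimension and any hull. -/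
theorem nonempty_duality_of_hull {r : ℕ} (hA : ∃ n, InjLT A A n) (hdim : ringKrullDim A = r)
    {E : Type u} [AddCommGroup E] [Module A E] {f : ResidueField A →ₗ[A] E} (hf : IsInjectiveHull f)
    (M : Type u) [AddCommGroup M] [Module A M] [Module.Finite A M] {i j : ℕ} (hij : i + j = r) :
    Nonempty (Hm (A := A) i M ≃ₗ[A]
      (Abelian.Ext (ModuleCat.of A M) (ModuleCat.of A A) j →ₗ[A] E)) := by
  obtain ⟨hvan, f₀, hf₀⟩ := exists_hull_H_top r A hA hdim
  obtain ⟨e, -⟩ := GrothMatlis.hull_unique hf₀ hf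
  exact nonempty_duality hdim hvan hf.isInjective e.toLinearMap e.bijective j M i hij

/-- The `Ext` of Mathlib's `CategoryTheory.Ext` is linearly the derived category one. -/
noncomputable def oldExtEquiv (M N : ModuleCat.{u} A) (j : ℕ) :
    ((Ext A (ModuleCat.{u} A) j).obj (op M)).obj N ≃ₗ[A] Abelian.Ext M N j :=
  (((extIso (R := A) j).app (op M)).app N).toLinearEquiv

end Groth.LocDual
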