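import Groth.Agent.LocDual.Top
import Groth.Agent.LocCohBase.ExtVanish

/-!
Local cohomology concentrated in one degree, with injective value, forces finite injective
dimension.
-/

set_option autoImplicit false
universe u

open CategoryTheory IsLocalRing GrothGoren Groth.LocCohBase

namespace Groth.LocDual

variable {A : Type u} [CommRing A] [IsLocalRing A] [IsNoetherianRing A]

lemma support_residueField_le :
    Module.support A (ResidueField A) ⊆ PrimeSpectrum.zeroLocus (maximalIdeal A : Set A) := by
  rw [Module.support_eq_zeroLocus]
  exact PrimeSpectrum.zeroLocus_anti_mono fun a ha =>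
    Module.mem_annihilator.2 fun x => GrothMatlis.smul_residueField_eq_zero ha x

theorem extZ_residueField_of_H : ∀ (d : ℕ) (M : Type u) [AddCommGroup M] [Module A M],
    (∀ i, i ≠ d → Subsingleton (LocCoh.H (maximalIdeal A) i M)) →
    Module.Injective A (LocCoh.H (maximalIdeal A) d M) →
    ∀ j, d < j → ExtZ A (ResidueField A) M j := by
  intro d
  induction d with
  | zero =>
    intro M _ _ hvan hinj j hj
    set T := DRing.torsionSub (maximalIdeal A) M with hT
    obtain ⟨j, rfl⟩ : ∃ k, j = k + 1 := ⟨j - 1, by omega⟩
    have hTinj : Module.Injective A T :=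
      GrothMatlis.injective_of_equiv hinj (h0Equiv (maximalIdeal A) M).symm
    have hQ : ∀ i, Subsingleton (LocCoh.H (maximalIdeal A) i (M ⧸ T)) := by
      intro i
      cases i with
      | zero =>
        exact (subsingleton_H_zero_iff _ _).2
          (torsionSub_quotient_eq_bot (IsNoetherian.noetherian _) M)
      | succ i =>
        haveI := hvan (i + 1) (Nat.succ_ne_zero i)
        exact subsingleton_of_forall_eq 0 fun y => by
          obtain ⟨x, rfl⟩ := (map_mkQ_torsion_bijective (maximalIdeal A) i M).2 y
          rw [Subsingleton.elim (x : LocCoh.H (maximalIdeal A) (i + 1) M) 0, map_zero]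
    refine extZ_mid (LinearMap.exact_subtype_mkQ T) T.injective_subtype T.mkQ_surjective ?_ ?_
    · exact extZ_of_injective
    · exact ext_subsingleton_of_H (maximalIdeal A) (j + 2) (M ⧸ T) (fun i _ => hQ i)
        (ResidueField A) inferInstance support_residueField_le (j + 1) (by omega)
  | succ d ih =>
    intro M _ _ hvan hinj j hj
    obtain ⟨j, rfl⟩ : ∃ k, j = k + 1 := ⟨j - 1, by omega⟩
    obtain ⟨E, f, hf, hE, hEinj⟩ := exists_injective_torsionFree_embedding (maximalIdeal A) M
      ((subsingleton_H_zero_iff _ M).1 (hvan 0 (by omega)))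
    haveI : Module.Injective A E := @Module.injective_module_of_injective_object A E _ _ _ hEinj
    have hex := LinearMap.exact_map_mkQ_range f
    have hS := seqCx_shortExact f (LinearMap.range f).mkQ hex hf (Submodule.mkQ_surjective _)
    have hEvan : ∀ i, Subsingleton (LocCoh.H (maximalIdeal A) i E) := fun i => by
      cases i with
      | zero => exact (subsingleton_H_zero_iff _ _).2 hE
      | succ i => exact subsingleton_succ_of_injective i E
    have hQ : ∀ i, i ≠ d →
        Subsingleton (LocCoh.H (maximalIdeal A) i (E ⧸ LinearMap.range f)) := fun i hi =>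
      subsingleton_X₃ hS i (hEvan i) (hvan (i + 1) (by omega))
    let e : LocCoh.H (maximalIdeal A) d (E ⧸ LinearMap.range f) ≃ₗ[A]
        LocCoh.H (maximalIdeal A) (d + 1) M := LinearEquiv.ofBijective (δ hS d)
      ⟨by
        rw [injective_iff_map_eq_zero]
        intro y hy
        obtain ⟨z, rfl⟩ := (exact₃ hS d y).1 hy
        haveI := hEvan d
        rw [Subsingleton.elim (z : LocCoh.H (maximalIdeal A) d E) 0, map_zero],
      fun y => (exact₁ hS d y).1 ((hEvan (d + 1)).elim _ _)⟩
    exact extZ_left hex hf (Submodule.mkQ_surjective _)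
      (ih _ hQ (GrothMatlis.injective_of_equiv hinj e) j (by omega)) extZ_of_injective

end Groth.LocDual
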