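import Groth.Agent.LocDual.ExtLocal
import Groth.Agent.LocCohBase.CM
import Groth.Agent.LocCohBase.DepthLocal
import Groth.Agent.Ega4Algebra1.CatenaryDim

/-!
Vanishing and annihilators of local cohomology via localizations, over a Gorenstein local ring.
-/

set_option autoImplicit false
universe u

open CategoryTheory IsLocalRing InjHull GrothGoren Groth.LocCohBase

namespace Groth.LocDual

variable {A : Type u} [CommRing A] [IsLocalRing A] [IsNoetherianRing A]

/-- In a Cohen–Macaulay local ring, `dim A_P + dim A/P = dim A`. -/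
theorem exists_dim_split (hA : LocCoh.IsCohenMacaulayLocalRing A) {r : ℕ}
    (hr : ringKrullDim A = r) (P : Ideal A) [P.IsPrime] :
    ∃ h e : ℕ, h + e = r ∧ ringKrullDim (Localization.AtPrime P) = h ∧
      ringKrullDim (A ⧸ P) = e := by
  let p : PrimeSpectrum A := ⟨P, inferInstance⟩
  have he : ringKrullDim (A ⧸ P) = ((Order.coheight p : ℕ∞) : WithBot ℕ∞) :=
    Groth.Ega4Algebra1.ringKrullDim_quotient_eq_coheight A p
  have hh : ringKrullDim (Localization.AtPrime P) = ((Order.height p : ℕ∞) : WithBot ℕ∞) := by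
    rw [IsLocalization.AtPrime.ringKrullDim_eq_height P (Localization.AtPrime P),
      ← PrimeSpectrum.height_eq_orderHeight]
  have hle : Order.height p + Order.coheight p ≤ (r : ℕ∞) := by
    have h1 := Order.krullDim_eq_iSup_height_add_coheight_of_nonempty (α := PrimeSpectrum A)
    rw [show Order.krullDim (PrimeSpectrum A) = ringKrullDim A from rfl, hr] at h1
    have h2 : (⨆ q : PrimeSpectrum A, Order.height q + Order.coheight q) = (r : ℕ∞) :=
      (WithBot.coe_injective h1).symm
    exact h2 ▸ le_iSup (fun q : PrimeSpectrum A => Order.height q + Order.coheight q) p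
  obtain ⟨h, hhn⟩ : ∃ h : ℕ, Order.height p = h :=
    ⟨_, (ENat.coe_toNat (ne_top_of_le_ne_top (ENat.natCast_ne_top r) (le_self_add.trans hle))).symm⟩
  obtain ⟨e, hen⟩ : ∃ e : ℕ, Order.coheight p = e :=
    ⟨_, (ENat.coe_toNat (ne_top_of_le_ne_top (ENat.natCast_ne_top r) (le_add_self.trans hle))).symm⟩
  rw [hhn, hen] at hle
  rw [hhn] at hh
  rw [hen] at he
  refine ⟨h, e, le_antisymm (by exact_mod_cast hle) ?_, hh, he⟩
  obtain ⟨n, hn⟩ : ∃ n : ℕ, LocCoh.idealDepth P A = n := by
    refine ⟨_, (ENat.coe_toNat ?_).symm⟩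
    exact idealDepth_ne_top (smul_maximalIdeal_ne_top A (Ideal.IsPrime.ne_top inferInstance))
  have hCM : LocCoh.IsCohenMacaulayModule A A := hA.supportDim_eq_depth
  have key := supportDim_eq_add_idealDepth (Ideal.IsPrime.ne_top (I := P) inferInstance) n A hCM hn
  have eq1 : (A ⧸ (P • (⊤ : Submodule A A))) ≃ₗ[A] A ⧸ P :=
    Submodule.quotEquivOfEq _ _ (by simp)
  rw [Module.supportDim_eq_of_equiv eq1, Module.supportDim_quotient_eq_ringKrullDim,
    Module.supportDim_self_eq_ringKrullDim, hr, he] at key
  haveI : Nontrivial (LocalizedModule P.primeCompl A) :=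
    Module.mem_support_iff.1 ((Module.mem_support_iff_of_finite (p := p)).2 (by
      rw [show Module.annihilator A A = ⊥ from Module.annihilator_eq_bot.2 inferInstance]
      exact bot_le))
  have hn' : (n : WithBot ℕ∞) ≤ (h : WithBot ℕ∞) := by
    have h1 := idealDepth_le_depth_localized P P le_rfl A
    rw [hn] at h1
    refine le_trans (WithBot.coe_le_coe.2 h1) ((depth_le_supportDim _).trans ?_)
    exact le_trans (Module.supportDim_le_ringKrullDim _ _) (le_of_eq hh)
  have hkey : r = e + n := by exact_mod_cast key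
  have hn'' : n ≤ h := by exact_mod_cast hn'
  omega

/-- Finite self-injective dimension at a prime. -/
theorem exists_injLT_atPrime (hA : ∃ n, InjLT A A n) (P : Ideal A) [P.IsPrime] :
    ∃ n, InjLT (Localization.AtPrime P) (Localization.AtPrime P) n := by
  obtain ⟨n, hn⟩ := hA
  exact ⟨n + 1, exists_injLT_localization P.primeCompl hn⟩

theorem subsingleton_dual_iff {E : Type u} [AddCommGroup E] [Module A E]
    {f : ResidueField A →ₗ[A] E} (hf : IsInjectiveHull f) (X : Type u) [AddCommGroup X]
    [Module A X] : Subsingleton (X →ₗ[A] E) ↔ Subsingleton X := by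
  refine ⟨fun h => subsingleton_of_forall_eq 0 fun x => ?_, fun _ => inferInstance⟩
  by_contra hx
  obtain ⟨φ, hφ⟩ := GrothMatlis.exists_dual_ne_zero hf hx
  exact hφ (by rw [Subsingleton.elim φ 0]; rfl)

/-- Local cohomology at a prime vanishes iff the complementary `Ext` vanishes there. -/
theorem subsingleton_Hm_atPrime_iff (hA : ∃ n, InjLT A A n) {r : ℕ} (hr : ringKrullDim A = r)
    (P : Ideal A) [P.IsPrime] {e : ℕ} (he : ringKrullDim (A ⧸ P) = e)
    (M : Type u) [AddCommGroup M] [Module A M] [Module.Finite A M] {i j : ℕ}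
    (hij : i + e + j = r) :
    Subsingleton (Hm (A := Localization.AtPrime P) i (LocalizedModule P.primeCompl M)) ↔
      Subsingleton (LocalizedModule P.primeCompl
        (Abelian.Ext (ModuleCat.of A M) (ModuleCat.of A A) j)) := by
  obtain ⟨h, e', hhe, hh, he'⟩ := exists_dim_split (isCohenMacaulay A hA) hr P
  obtain rfl : e' = e := by rw [he] at he'; exact_mod_cast he'.symm
  haveI : Module.Finite (Localization.AtPrime P) (LocalizedModule P.primeCompl M) :=
    Module.Finite.of_isLocalizedModule P.primeCompl (LocalizedModule.mkLinearMap P.primeCompl M)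
  obtain ⟨E, _, _, f, hf⟩ :=
    GrothMatlis.exists_hull (Localization.AtPrime P) (ResidueField (Localization.AtPrime P))
  obtain ⟨D⟩ := nonempty_duality_of_hull (exists_injLT_atPrime hA P) hh hf
    (LocalizedModule P.primeCompl M) (i := i) (j := j) (by omega)
  rw [D.toEquiv.subsingleton_congr, subsingleton_dual_iff hf, subsingleton_localized_ext_iff]

/-- Above `dim A_P` there is no local cohomology at `P`. -/
theorem subsingleton_Hm_atPrime_of_lt (hA : ∃ n, InjLT A A n) {r : ℕ} (hr : ringKrullDim A = r)
    (P : Ideal A) [P.IsPrime] {e : ℕ} (he : ringKrullDim (A ⧸ P) = e)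
    (M : Type u) [AddCommGroup M] [Module A M] {i : ℕ} (hi : r < i + e) :
    Subsingleton (Hm (A := Localization.AtPrime P) i (LocalizedModule P.primeCompl M)) := by
  obtain ⟨h, e', hhe, hh, he'⟩ := exists_dim_split (isCohenMacaulay A hA) hr P
  obtain rfl : e' = e := by rw [he] at he'; exact_mod_cast he'.symm
  exact cdLE_of_dim_le _ h (le_of_eq hh) (LocalizedModule P.primeCompl M) i (by omega)

/-- The complementary `Ext` vanishes at `P` in codegrees beyond `dim A_P`. -/
theorem subsingleton_localized_ext_of_lt (hA : ∃ n, InjLT A A n) {r : ℕ} (hr : ringKrullDim A = r)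
    (P : Ideal A) [P.IsPrime] {e : ℕ} (he : ringKrullDim (A ⧸ P) = e)
    (M : Type u) [AddCommGroup M] [Module A M] [Module.Finite A M] {j : ℕ} (hj : r < j + e) :
    Subsingleton (LocalizedModule P.primeCompl
      (Abelian.Ext (ModuleCat.of A M) (ModuleCat.of A A) j)) := by
  obtain ⟨h, e', hhe, hh, he'⟩ := exists_dim_split (isCohenMacaulay A hA) hr P
  obtain rfl : e' = e := by rw [he] at he'; exact_mod_cast he'.symm
  obtain ⟨d, hd, hd1, -, -⟩ := exists_dim _ (exists_injLT_atPrime hA P)
  obtain rfl : d = h := by rw [hh] at hd; exact_mod_cast hd.symm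
  exact (subsingleton_localized_ext_iff P j M).2 (hd1.extZ _ (by omega))

/-- The radical of the annihilator of a finite module, by localizations. -/
theorem le_radical_annihilator_iff (X : Type u) [AddCommGroup X] [Module A X] [Module.Finite A X]
    (J : Ideal A) : J ≤ (Module.annihilator A X).radical ↔
      ∀ (P : Ideal A) [P.IsPrime], ¬ J ≤ P → Subsingleton (LocalizedModule P.primeCompl X) := by
  constructor
  · intro h P hP hJ
    by_contra hne
    rw [not_subsingleton_iff_nontrivial] at hne
    have hmem := Module.mem_support_iff_of_finite.1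
      (Module.mem_support_iff (p := (⟨P, hP⟩ : PrimeSpectrum A)).2 hne)
    exact hJ (h.trans (hP.radical_le_iff.2 hmem))
  · intro h
    rw [Ideal.radical_eq_sInf]
    refine le_sInf fun P hP => ?_
    obtain ⟨hle, hPp⟩ := hP
    by_contra hJ
    exact not_nontrivial_iff_subsingleton.2 (@h P hPp hJ)
      (Module.mem_support_iff.1 ((Module.mem_support_iff_of_finite
        (p := (⟨P, hPp⟩ : PrimeSpectrum A))).2 hle))

/-- Duality exchanges annihilators. -/
theorem annihilator_Hm_eq (hA : ∃ n, InjLT A A n) {r : ℕ} (hr : ringKrullDim A = r)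
    (M : Type u) [AddCommGroup M] [Module A M] [Module.Finite A M] {i j : ℕ} (hij : i + j = r) :
    Module.annihilator A (Hm (A := A) i M) =
      Module.annihilator A (Abelian.Ext (ModuleCat.of A M) (ModuleCat.of A A) j) := by
  obtain ⟨E, _, _, f, hf⟩ := GrothMatlis.exists_hull A (ResidueField A)
  obtain ⟨D⟩ := nonempty_duality_of_hull hA hr hf M hij
  rw [D.annihilator_eq, ← GrothMatlis.annihilator_dual_eq hf]

/-- Faltings-type criterion over a Gorenstein local ring. -/
theorem le_radical_annihilator_Hm_iff (hA : ∃ n, InjLT A A n)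
    (M : Type u) [AddCommGroup M] [Module A M] [Module.Finite A M] (J : Ideal A) (i : ℕ) :
    J ≤ (Module.annihilator A (Hm (A := A) i M)).radical ↔
      ∀ (P : Ideal A) [P.IsPrime], ¬ J ≤ P → ∀ e j : ℕ, ringKrullDim (A ⧸ P) = e → j + e = i →
        Subsingleton (Hm (A := Localization.AtPrime P) j (LocalizedModule P.primeCompl M)) := by
  obtain ⟨r, hr, -, -, -⟩ := exists_dim A hA
  rcases Nat.lt_or_ge r i with hi | hi
  · refine iff_of_true ?_ fun P _ _ e j he hje =>
      subsingleton_Hm_atPrime_of_lt hA hr P he M (by omega)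
    haveI : Subsingleton (Hm (A := A) i M) := cdLE_of_dim_le _ r (le_of_eq hr) M i hi
    rw [Module.annihilator_eq_top_iff.2 ‹_›, Ideal.radical_top]
    exact le_top
  obtain ⟨k, rfl⟩ : ∃ k, r = i + k := ⟨r - i, by omega⟩
  haveI : Module.Finite A (Abelian.Ext (ModuleCat.of A M) (ModuleCat.of A A) k) :=
    ModuleCat.finite_ext A (ModuleCat.of A M) (ModuleCat.of A A) k
  rw [annihilator_Hm_eq hA hr M rfl, le_radical_annihilator_iff]
  refine ⟨fun h P _ hJ e j he hje =>
    (subsingleton_Hm_atPrime_iff hA hr P he M (j := k) (by omega)).2 (h P hJ), fun h P _ hJ => ?_⟩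
  obtain ⟨h', e, hhe, -, he⟩ := exists_dim_split (isCohenMacaulay A hA) hr P
  rcases Nat.lt_or_ge i e with hie | hie
  · exact subsingleton_localized_ext_of_lt hA hr P he M (by omega)
  · exact (subsingleton_Hm_atPrime_iff hA hr P he M (i := i - e) (by omega)).1
      (h P hJ e (i - e) he (by omega))

end Groth.LocDual
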