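import Groth.Prelude.Def_DerCA

/-! An inverse system of Artinian modules whose limit is an Artinian module is essentially constant. -/

set_option autoImplicit false
universe u
open CategoryTheory Opposite

namespace Groth.Agent.LocDual.ArtinianEssConst

variable {A : Type u} [CommRing A]

theorem tr_app (X : ARSys.PS (ModuleCat.{u} A)) {a b c : ℕ} (h : a ≤ b) (h' : b ≤ c)
    (x : X.obj (op c)) :
    (ARSys.tr X h).hom ((ARSys.tr X h').hom x) = (ARSys.tr X (h.trans h')).hom x := by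
  rw [← LinearMap.comp_apply, ← ModuleCat.hom_comp]
  simp only [ARSys.tr, ← Functor.map_comp]
  congr 3

theorem tr_self (X : ARSys.PS (ModuleCat.{u} A)) {a : ℕ} (x : X.obj (op a)) :
    (ARSys.tr X (le_refl a)).hom x = x := by
  simp [ARSys.tr]

theorem exists_stable (X : ARSys.PS (ModuleCat.{u} A)) (n : ℕ) [IsArtinian A (X.obj (op n))] :
    ∃ (m : ℕ) (h : n ≤ m), ∀ (k : ℕ) (hk : m ≤ k),
      LinearMap.range (ARSys.tr X (h.trans hk)).hom = LinearMap.range (ARSys.tr X h).hom := by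
  let f : ℕ →o (Submodule A (X.obj (op n)))ᵒᵈ :=
    ⟨fun j => OrderDual.toDual (LinearMap.range (ARSys.tr X (Nat.le_add_right n j)).hom), by
      intro a b hab
      rintro _ ⟨x, rfl⟩
      exact ⟨(ARSys.tr X (Nat.add_le_add_left hab n)).hom x, tr_app X _ _ x⟩⟩
  obtain ⟨j, hj⟩ := IsArtinian.monotone_stabilizes f
  refine ⟨n + j, Nat.le_add_right n j, fun k hk => ?_⟩
  obtain ⟨l, rfl⟩ : ∃ l, k = n + l := ⟨k - n, by omega⟩
  exact (congrArg OrderDual.ofDual (hj l (by omega))).symm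

/-- An element of the stable image extends to a compatible family. -/
theorem exists_family (X : ARSys.PS (ModuleCat.{u} A)) [∀ n : ℕ, IsArtinian A (X.obj (op n))]
    (n : ℕ) (y : X.obj (op n))
    (hy : ∀ (k : ℕ) (hk : n ≤ k), y ∈ LinearMap.range (ARSys.tr X hk).hom) :
    ∃ w : ∀ j : ℕ, X.obj (op j),
      (∀ (a b : ℕ) (h : a ≤ b), (ARSys.tr X h).hom (w b) = w a) ∧ w n = y := by
  have step : ∀ (a : ℕ) (x : X.obj (op a)),
      (∀ (k : ℕ) (hk : a ≤ k), x ∈ LinearMap.range (ARSys.tr X hk).hom) →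
      ∃ x' : X.obj (op (a + 1)),
        (∀ (k : ℕ) (hk : a + 1 ≤ k), x' ∈ LinearMap.range (ARSys.tr X hk).hom) ∧
          (ARSys.tr X (Nat.le_succ a)).hom x' = x := by
    intro a x hx
    obtain ⟨m, hm, hst⟩ := exists_stable X (a + 1)
    obtain ⟨z, hz⟩ := hx m ((Nat.le_succ a).trans hm)
    refine ⟨(ARSys.tr X hm).hom z, fun k hk => ?_, (tr_app X _ _ z).trans hz⟩
    have h1 : (ARSys.tr X hm).hom z ∈ LinearMap.range (ARSys.tr X (hm.trans (le_max_left m k))).hom := by
      rw [hst _ (le_max_left m k)]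
      exact ⟨z, rfl⟩
    obtain ⟨z', hz'⟩ := h1
    exact ⟨(ARSys.tr X (le_max_right m k)).hom z', (tr_app X _ _ z').trans hz'⟩
  let P : ℕ → Type u := fun j =>
    {x : X.obj (op (n + j)) // ∀ (k : ℕ) (hk : n + j ≤ k), x ∈ LinearMap.range (ARSys.tr X hk).hom}
  let w' : ∀ j, P j := fun j => Nat.rec (motive := P) ⟨y, hy⟩
    (fun j x => ⟨(step _ x.1 x.2).choose, (step _ x.1 x.2).choose_spec.1⟩) j
  have hw : ∀ j, (ARSys.tr X (Nat.le_succ (n + j))).hom (w' (j + 1)).1 = (w' j).1 := fun j =>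
    (step _ (w' j).1 (w' j).2).choose_spec.2
  have hw2 : ∀ a d, (ARSys.tr X (Nat.add_le_add_left (Nat.le_add_right a d) n)).hom (w' (a + d)).1
      = (w' a).1 := by
    intro a d
    induction d with
    | zero => exact tr_self X _
    | succ d ih =>
      rw [← ih, ← hw (a + d)]
      exact (tr_app X (Nat.add_le_add_left (Nat.le_add_right a d) n) (Nat.le_succ _) _).symm
  refine ⟨fun j => (ARSys.tr X (Nat.le_add_left j n)).hom (w' j).1, fun a b h => ?_, ?_⟩
  · obtain ⟨d, rfl⟩ := Nat.le.dest h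
    dsimp only
    rw [← hw2 a d, tr_app, tr_app]
  · have h1 := hw2 0 n
    have h2 : ∀ (a : ℕ) (e : a = n) (h : n ≤ n + a),
        (ARSys.tr X h).hom (w' a).1 = (ARSys.tr X (Nat.le_add_left n n)).hom (w' n).1 := by
      intro a e h; subst e; rfl
    exact (h2 _ (Nat.zero_add n) _).symm.trans h1

theorem isEssConstant (X : ARSys.PS (ModuleCat.{u} A)) [∀ n : ℕ, IsArtinian A (X.obj (op n))]
    (H : ModuleCat.{u} A) [IsArtinian A H] (c : (Functor.const ℕᵒᵖ).obj H ⟶ X)
    (hinj : ∀ x : H, (∀ n : ℕᵒᵖ, (c.app n).hom x = 0) → x = 0)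
    (hsurj : ∀ y : (∀ n : ℕ, X.obj (op n)),
      (∀ (n m : ℕ) (h : n ≤ m), (ARSys.tr X h).hom (y m) = y n) →
      ∃ x : H, ∀ n : ℕ, (c.app (op n)).hom x = y n) :
    DerCA.IsEssConstant X H c := by
  have hc : ∀ (a b : ℕ) (h : a ≤ b) (x : H),
      (ARSys.tr X h).hom ((c.app (op b)).hom x) = (c.app (op a)).hom x := by
    intro a b h x
    exact (congrArg (fun f => f.hom x) (c.naturality (homOfLE h).op)).symm
  have hlift : ∀ (n m : ℕ) (h : n ≤ m), (∀ (k : ℕ) (hk : m ≤ k),
      LinearMap.range (ARSys.tr X (h.trans hk)).hom = LinearMap.range (ARSys.tr X h).hom) →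
      ∀ z, ∃ x : H, (c.app (op n)).hom x = (ARSys.tr X h).hom z := by
    intro n m h hst z
    obtain ⟨w, hw, hwn⟩ := exists_family X n ((ARSys.tr X h).hom z) (fun k hk => by
      have h1 : (ARSys.tr X h).hom z ∈
          LinearMap.range (ARSys.tr X (h.trans (le_max_left m k))).hom := by
        rw [hst _ (le_max_left m k)]
        exact ⟨z, rfl⟩
      obtain ⟨z', hz'⟩ := h1
      exact ⟨(ARSys.tr X (le_max_right m k)).hom z', (tr_app X _ _ z').trans hz'⟩)
    obtain ⟨x, hx⟩ := hsurj w hw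
    exact ⟨x, (hx n).trans hwn⟩
  let K : ℕ →o (Submodule A H)ᵒᵈ :=
    ⟨fun j => OrderDual.toDual (LinearMap.ker (c.app (op j)).hom), fun a b hab x hx =>
      (hc a b hab x).symm.trans ((congrArg _ hx).trans (map_zero _))⟩
  obtain ⟨i₀, hi₀⟩ := IsArtinian.monotone_stabilizes K
  have hker : ∀ x : H, (c.app (op i₀)).hom x = 0 → x = 0 := by
    intro x hx
    refine hinj x fun n => ?_
    have h1 : x ∈ OrderDual.ofDual (K (max i₀ n.unop)) := by
      rw [← hi₀ _ (le_max_left _ _)]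
      exact hx
    exact (hc n.unop _ (le_max_right _ _) x).symm.trans ((congrArg _ h1).trans (map_zero _))
  obtain ⟨i, hi, hst⟩ := exists_stable X i₀
  choose s hs using hlift i₀ i hi hst
  have hinj' : Function.Injective (c.app (op i₀)).hom :=
    (injective_iff_map_eq_zero _).2 hker
  let S : X.obj (op i) →ₗ[A] H :=
    { toFun := s
      map_add' := fun x y => hinj' (by rw [map_add (c.app (op i₀)).hom, hs, hs, hs, map_add])
      map_smul' := fun a x => hinj' (by
        rw [RingHom.id_apply, map_smul (c.app (op i₀)).hom, hs, hs, map_smul]) }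
  have hS : ∀ z, (c.app (op i₀)).hom (S z) = (ARSys.tr X hi).hom z := hs
  refine ⟨i, ModuleCat.ofHom S, ?_, fun j => ?_⟩
  · ext x
    exact hinj' ((hS _).trans (hc _ _ hi x))
  · obtain ⟨l, hl, hstl⟩ := exists_stable X (max i j)
    refine ⟨l, (le_max_left _ _).trans hl, (le_max_right _ _).trans hl, ?_⟩
    ext z
    obtain ⟨x, hx⟩ := hlift _ l hl hstl z
    have hxi : (ARSys.tr X ((le_max_left i j).trans hl)).hom z = (c.app (op i)).hom x := by
      rw [← tr_app X (le_max_left i j) hl, ← hx, hc]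
    have hxj : (ARSys.tr X ((le_max_right i j).trans hl)).hom z = (c.app (op j)).hom x := by
      rw [← tr_app X (le_max_right i j) hl, ← hx, hc]
    show _ = (c.app (op j)).hom (S ((ARSys.tr X ((le_max_left i j).trans hl)).hom z))
    refine hxj.trans ?_
    rw [hxi]
    exact congrArg (c.app (op j)).hom (hinj' ((hS _).trans (hc _ _ hi x))).symm

end Groth.Agent.LocDual.ArtinianEssConst
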