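import Groth.Agent.DualCore.LocalDuality
import Groth.Agent.DualCore.Normalized
import Groth.Agent.LocCohTransform.CompletionHLVT
import Groth.Agent.LocDual.Completion

/-!
Vanishing of `H⁰_I(ω)` of a normalized dualizing complex forces `cd I < dim A`.
-/

set_option autoImplicit false
set_option linter.style.haveILetI false

universe u

open CategoryTheory CategoryTheory.Limits IsLocalRing Opposite Groth.DualCore
open scoped TensorProduct

attribute [local instance] HasDerivedCategory.standard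

namespace Groth.LocDual.DualizingCd

variable {A : Type u} [CommRing A] [IsLocalRing A] [IsNoetherianRing A]

omit [IsLocalRing A] [IsNoetherianRing A] in
/-- The transition map. -/
noncomputable abbrev q (I : Ideal A) {n m : ℕ} (h : n ≤ m) : (A ⧸ I ^ m) →ₗ[A] (A ⧸ I ^ n) :=
  Submodule.factor (Ideal.pow_le_pow_right h)

omit [IsLocalRing A] [IsNoetherianRing A] in
theorem exists_eventually_zero (I : Ideal A) (ω : Dual.D A) (h0 : Subsingleton (Dual2.HDI A I ω 0))
    (n : ℕ) (u : Dual.inD A (A ⧸ I ^ n) ⟶ ω⟦(0 : ℤ)⟧) :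
    ∃ (m : ℕ) (h : n ≤ m), map1 ω 0 (q I h) u = 0 := by
  let F := (localCohomology.ringModIdeals (localCohomology.idealPowersDiagram I) ⋙
      DerivedCategory.singleFunctor (ModuleCat.{u} A) 0).op ⋙ (linearYoneda A (Dual.D A)).obj (ω⟦(0 : ℤ)⟧)
  haveI : PreservesFilteredColimitsOfSize.{0, 0} (forget AddCommGrpCat.{u + 1}) :=
    preservesFilteredColimitsOfSize_shrink.{0, u + 1, 0, u + 1} _
  haveI : PreservesColimit F (forget (ModuleCat.{u + 1} A)) :=
    inferInstanceAs (PreservesColimit F (forget₂ (ModuleCat.{u + 1} A) AddCommGrpCat ⋙ forget AddCommGrpCat))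
  have h1 : colimit.ι F (op (op n)) u = colimit.ι F (op (op n)) 0 := @Subsingleton.elim _ h0 _ _
  obtain ⟨k, w, w', hw⟩ := (Concrete.colimit_rep_eq_iff_exists F _ _).1 h1
  obtain ⟨⟨m⟩⟩ := k
  have hnm : n ≤ m := leOfHom w.unop.unop
  refine ⟨m, hnm, ?_⟩
  have h2 : F.map w u = 0 := hw.trans (map_zero _)
  have e : (localCohomology.ringModIdeals (localCohomology.idealPowersDiagram I)).map
      (homOfLE hnm).op = ModuleCat.ofHom (q I hnm) :=
    ModuleCat.hom_ext (Submodule.linearMap_qext _ rfl)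
  refine Eq.trans ?_ h2
  show _ = (DerivedCategory.singleFunctor (ModuleCat.{u} A) 0).map _ ≫ u
  rw [show w.unop = (homOfLE hnm).op from Subsingleton.elim _ _, e]
  rfl

variable {ω : Dual.D A} (hω : Dual.IsDualizing A ω) (hn : Dual.IsNormalized A ω)

include hω hn in
/-- Torsion elements of the tower `A/I^m` are pro-zero. -/
theorem exists_prozero (I : Ideal A) (h0 : Subsingleton (Dual2.HDI A I ω 0)) (n : ℕ) :
    ∃ (m : ℕ) (h : n ≤ m), ∀ (x : A ⧸ I ^ m) (j : ℕ),
      (∀ a ∈ maximalIdeal A ^ j, a • x = 0) → q I h x = 0 := by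
  classical
  haveI hfin : Module.Finite A (Dual.inD A (A ⧸ I ^ n) ⟶ ω⟦(0 : ℤ)⟧) :=
    finite_hom_dualizing hω _ (fun i => finite_HD_inD (A ⧸ I ^ n) i) 0
  obtain ⟨s, hs⟩ := hfin.fg_top
  choose mm hle hzero using exists_eventually_zero I ω h0 n
  refine ⟨max n (s.sup mm), le_max_left _ _, ?_⟩
  set m := max n (s.sup mm)
  intro x j hx
  have hall : ∀ u, map1 ω 0 (q I (le_max_left n (s.sup mm))) u = 0 := by
    suffices hle' : ⊤ ≤ LinearMap.ker (map1 ω 0 (q I (le_max_left n (s.sup mm)))) from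
      fun u => hle' trivial
    rw [← hs, Submodule.span_le]
    intro u hu
    have h2 : mm u ≤ m := (Finset.le_sup hu).trans (le_max_right _ _)
    have h3 : q I (le_max_left n (s.sup mm)) = q I (hle u) ∘ₗ q I h2 :=
      (Submodule.linearMap_qext _ rfl)
    show map1 ω 0 _ u = 0
    rw [h3, map1_comp, hzero, map_zero]
  let N : Submodule A (A ⧸ I ^ m) := Submodule.span A {x}
  have hN : LocCoh.IsPowerTorsion (maximalIdeal A) N := fun y => ⟨j, fun a ha => by
    obtain ⟨y, hy⟩ := y
    obtain ⟨c, rfl⟩ := Submodule.mem_span_singleton.1 hy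
    exact Subtype.ext (show a • c • x = 0 by rw [smul_comm, hx a ha, smul_zero])⟩
  have hNfl : IsFiniteLength A N := isFiniteLength_of_isPowerTorsion N hN
  obtain ⟨hNn, hNa⟩ := isFiniteLength_iff_isNoetherian_isArtinian.1 hNfl
  let φ : N →ₗ[A] (A ⧸ I ^ n) := q I (le_max_left n (s.sup mm)) ∘ₗ N.subtype
  let W := LinearMap.range φ
  have hker : IsFiniteLength A (LinearMap.ker φ.rangeRestrict) :=
    isFiniteLength_iff_isNoetherian_isArtinian.2 ⟨inferInstance, inferInstance⟩
  have hWfl : IsFiniteLength A W := by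
    haveI : IsArtinian A W := isArtinian_of_surjective _ φ.rangeRestrict φ.surjective_rangeRestrict
    exact isFiniteLength_iff_isNoetherian_isArtinian.2 ⟨inferInstance, inferInstance⟩
  have hres := hasResidue_of_normalized hω hn
  obtain ⟨a, b, hab⟩ := hω.finite_injective_dimension
  obtain ⟨r⟩ := exists_injRep ω a b hab
  haveI := r.isGE_self
  have hsub : Subsingleton (Dual.inD A W ⟶ ω⟦(0 : ℤ)⟧) := by
    refine subsingleton_of_forall_eq 0 fun v => ?_
    haveI := subsingleton_hom_of_pos ω r.a hω.finite_cohomology hn ((A ⧸ I ^ n) ⧸ W) 1 one_pos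
    obtain ⟨u, rfl⟩ := (map1_exact_left W.subtype W.mkQ W.injective_subtype W.mkQ_surjective
      (LinearMap.exact_subtype_mkQ W) ω 0 1 (zero_add 1) v).1 (Subsingleton.elim _ _)
    refine map1_injective_of_surjective hres φ.rangeRestrict φ.surjective_rangeRestrict hker ?_
    rw [map_zero, ← map1_comp, LinearMap.subtype_comp_codRestrict]
    show map1 ω 0 (q I (le_max_left n (s.sup mm)) ∘ₗ N.subtype) u = 0
    rw [map1_comp, hall, map_zero]
  have hlen := length_hom_finiteLength hres hWfl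
  rw [Module.length_eq_zero_iff.2 hsub] at hlen
  haveI : Subsingleton W := Module.length_eq_zero_iff.1 hlen.symm
  exact congrArg Subtype.val
    (Subsingleton.elim (⟨φ ⟨x, Submodule.mem_span_singleton_self x⟩, ⟨_, rfl⟩⟩ : W) 0)

local notation "C" => AdicCompletion (maximalIdeal A) A

omit [IsLocalRing A] [IsNoetherianRing A] in
theorem sup_pow_le {B : Type u} [CommRing B] (J P : Ideal B) (k : ℕ) : (J ⊔ P) ^ k ≤ J ^ k ⊔ P := by
  induction k with
  | zero => rw [pow_zero, pow_zero]; exact le_sup_left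
  | succ k ih =>
    rw [pow_succ, pow_succ]
    refine (Ideal.mul_mono_left ih).trans ?_
    rw [Ideal.sup_mul, Ideal.mul_sup]
    exact sup_le (sup_le le_sup_left (le_trans Ideal.mul_le_right le_sup_right))
      (le_trans Ideal.mul_le_left le_sup_right)

include hω hn in
theorem one_le_dim (I : Ideal A) (hI : I ≠ ⊤) (h0 : Subsingleton (Dual2.HDI A I ω 0))
    (P : Ideal C) (hP : P ∈ minimalPrimes C) :
    1 ≤ ringKrullDim (C ⧸ (I.map (algebraMap A C) ⊔ P)) := by
  classical
  haveI := Groth.LocCohTransform.HLVT.isNoetherianRing_completion A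
  haveI : Module.Flat A C := AdicCompletion.flat_of_isNoetherian (maximalIdeal A)
  haveI := hP.1.1
  by_contra hdim
  set J := I.map (algebraMap A C) with hJ
  have hrad : maximalIdeal C ≤ (J ⊔ P).radical := by
    rw [Ideal.radical_eq_sInf]
    refine le_sInf fun Q hQ => ?_
    haveI := hQ.2
    haveI : Ring.KrullDimLE 0 (C ⧸ (J ⊔ P)) := by
      rw [Ring.krullDimLE_iff]
      rw [not_le] at hdim
      exact_mod_cast Order.le_of_lt_succ (α := WithBot ℕ∞) hdim
    haveI : (Q.map (Ideal.Quotient.mk (J ⊔ P))).IsPrime :=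
      Ideal.map_isPrime_of_surjective Ideal.Quotient.mk_surjective (by rw [Ideal.mk_ker]; exact hQ.1)
    have := Ideal.IsPrime.isMaximal' (I := Q.map (Ideal.Quotient.mk (J ⊔ P)))
    have hQm : Q.IsMaximal := by
      have h1 := Ideal.comap_isMaximal_of_surjective (Ideal.Quotient.mk (J ⊔ P))
        Ideal.Quotient.mk_surjective (K := Q.map (Ideal.Quotient.mk (J ⊔ P)))
      rwa [Ideal.comap_map_of_surjective _ Ideal.Quotient.mk_surjective, ← RingHom.ker_eq_comap_bot,
        Ideal.mk_ker, sup_eq_left.2 hQ.1] at h1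
    exact (IsLocalRing.eq_maximalIdeal hQm).ge
  obtain ⟨N, hN⟩ := Ideal.exists_pow_le_of_le_radical_of_fg hrad (IsNoetherian.noetherian _)
  have hPass : P ∈ associatedPrimes C C := by
    refine Module.associatedPrimes.minimalPrimes_annihilator_subset_associatedPrimes C C ?_
    rwa [Module.annihilator_eq_bot.2 inferInstance]
  obtain ⟨-, a, ha⟩ := isAssociatedPrime_iff.1 hPass
  have hPa : ∀ p ∈ P, p * a = 0 := fun p hp => by
    rw [ha, Submodule.mem_colon_singleton, Submodule.mem_bot] at hp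
    simpa using hp
  have ha0 : a ≠ 0 := fun h => hP.1.1.ne_top (by rw [ha, h]; simp)
  refine ha0 ?_
  have hJtop : J ≠ ⊤ := ne_top_of_le_ne_top (maximalIdeal.isMaximal C).ne_top
    ((Ideal.map_mono (le_maximalIdeal hI)).trans (by rw [← AdicCompletion.maximalIdeal_eq_map]))
  rw [← Submodule.mem_bot C, ← Ideal.iInf_pow_eq_bot_of_isLocalRing J hJtop, Submodule.mem_iInf]
  intro n
  obtain ⟨m, hnm, hpz⟩ := exists_prozero hω hn I h0 n
  obtain ⟨s, hs⟩ := IsNoetherian.noetherian (maximalIdeal A ^ (N * m) : Ideal A)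
  let f : (A ⧸ I ^ m) →ₗ[A] (s → A ⧸ I ^ m) :=
    LinearMap.pi fun g => LinearMap.lsmul A (A ⧸ I ^ m) (g : A)
  have hfK : q I hnm ∘ₗ (LinearMap.ker f).subtype = 0 := by
    refine LinearMap.ext fun y => hpz y.1 (N * m) fun c hc => ?_
    rw [← hs] at hc
    induction hc using Submodule.span_induction with
    | mem g hg => exact congr_fun (LinearMap.mem_ker.1 y.2) ⟨g, hg⟩
    | zero => rw [zero_smul]
    | add b b' _ _ h1 h2 => rw [add_smul, h1, h2, add_zero]
    | smul r b _ h1 => rw [smul_eq_mul, mul_smul, h1, smul_zero]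
  have hmem : ∀ g : s, (g : A) • a ∈ J ^ m := by
    intro g
    have hg : (g : A) ∈ maximalIdeal A ^ (N * m) := hs ▸ Submodule.subset_span g.2
    have h1 : algebraMap A C g ∈ J ^ m ⊔ P := by
      refine sup_pow_le J P m (?_ : algebraMap A C g ∈ (J ⊔ P) ^ m)
      refine Ideal.pow_right_mono hN m ?_
      rw [← pow_mul, AdicCompletion.maximalIdeal_eq_map, ← Ideal.map_pow]
      exact Ideal.mem_map_of_mem _ hg
    obtain ⟨c, hc, p, hp, hcp⟩ := Submodule.mem_sup.1 h1
    rw [Algebra.smul_def, ← hcp, add_mul, hPa p hp, add_zero]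
    exact Ideal.mul_mem_right _ _ hc
  have key : ∀ (k : ℕ) (c : C),
      c ⊗ₜ[A] (Ideal.Quotient.mk (I ^ k) 1) = (0 : C ⊗[A] (A ⧸ I ^ k)) ↔ c ∈ J ^ k := by
    intro k c
    rw [hJ, ← Ideal.map_pow, ← Ideal.Quotient.eq_zero_iff_mem, map_one,
      ← Algebra.TensorProduct.quotIdealMapEquivTensorQuot_mk C (I ^ k) c,
      EmbeddingLike.map_eq_zero_iff]
  let x : C ⊗[A] (A ⧸ I ^ m) := a ⊗ₜ Ideal.Quotient.mk (I ^ m) 1
  have hx : f.lTensor C x = 0 := by
    apply (TensorProduct.piRight A A C (fun _ : s => A ⧸ I ^ m)).injective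
    rw [map_zero]
    funext g
    show a ⊗ₜ[A] ((g : A) • (Ideal.Quotient.mk (I ^ m) 1 : A ⧸ I ^ m)) = 0
    rw [← TensorProduct.smul_tmul]
    exact (key m _).2 (hmem g)
  obtain ⟨y, hy⟩ := (Module.Flat.lTensor_exact C (LinearMap.exact_subtype_ker_map f) x).1 hx
  have h4 : (q I hnm).lTensor C x = 0 := by
    rw [← hy, ← LinearMap.lTensor_comp_apply, hfK, LinearMap.lTensor_zero, LinearMap.zero_apply]
  exact (key n a).1 h4

include hω hn in
theorem subsingleton_H (I : Ideal A) (h0 : Subsingleton (Dual2.HDI A I ω 0)) {d : ℕ}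
    (hd : ringKrullDim A = d) (M : Type u) [AddCommGroup M] [Module A M] (i : ℕ) (hi : d ≤ i) :
    Subsingleton (LocCoh.H I i M) := by
  rcases eq_or_ne I ⊤ with rfl | hI
  · refine subsingleton_of_forall_eq 0 fun x => ?_
    obtain ⟨n, α, rfl⟩ := Groth.LocCohBase.exists_rep (I := (⊤ : Ideal A)) i (ModuleCat.of A M) x
    haveI : Subsingleton (Groth.LocCohBase.quotPow (⊤ : Ideal A) n) :=
      Ideal.Quotient.subsingleton_iff.2 (Ideal.top_pow A n)
    have hα : α = 0 := by
      rw [← Abelian.Ext.mk₀_id_comp α, (ModuleCat.isZero_of_subsingleton _).eq_of_src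
        (𝟙 (Groth.LocCohBase.quotPow (⊤ : Ideal A) n)) 0, Abelian.Ext.mk₀_zero, Abelian.Ext.zero_comp]
    rw [hα, map_zero]
  rcases hi.lt_or_eq with hlt | rfl
  · exact Groth.LocCohBase.cdLE_of_dim_le_local I d hd.le M i hlt
  haveI : Subsingleton (LocCoh.H I d A) :=
    Groth.LocCohTransform.HLVT.subsingleton_H_of_completion A I d hd fun P hP _ =>
      one_le_dim hω hn I hI h0 P hP
  exact (Groth.LocCohTransform.tensorToH_bijective I d
    (Groth.LocCohBase.cdLE_of_dim_le_local I d hd.le) M).2.subsingleton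

end Groth.LocDual.DualizingCd
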