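import Groth.Agent.LocDual.Criterion
import Groth.Agent.LocCohTransform.Independence
import Mathlib.RingTheory.Localization.AtPrime.Basic

/-!
Transfer of local cohomology at primes along surjective ring maps.
-/

set_option autoImplicit false
universe u

open CategoryTheory IsLocalRing GrothGoren Groth.LocCohBase

namespace Groth.LocDual

variable {R A : Type u} [CommRing R] [IsNoetherianRing R] [CommRing A] [IsNoetherianRing A]
  [Algebra R A]

/-- Local cohomology at a prime does not depend on presenting the ring as a quotient. -/
theorem subsingleton_H_atPrime_iff_of_surjective (hπ : Function.Surjective (algebraMap R A))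
    (P : Ideal R) [P.IsPrime] (p : Ideal A) [p.IsPrime] (hP : P = p.comap (algebraMap R A))
    (M : Type u) [AddCommGroup M] [Module A M] [Module R M] [IsScalarTower R A M] (j : ℕ) :
    Subsingleton (LocCoh.H (maximalIdeal (Localization.AtPrime p)) j
        (LocalizedModule p.primeCompl M)) ↔
      Subsingleton (LocCoh.H (maximalIdeal (Localization.AtPrime P)) j
        (LocalizedModule P.primeCompl M)) := by
  set φ := Localization.localRingHom P p (algebraMap R A) hP with hφ
  letI algS : Algebra (Localization.AtPrime P) (Localization.AtPrime p) := φ.toAlgebra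
  letI : Module (Localization.AtPrime P) (LocalizedModule p.primeCompl M) := Module.compHom _ φ
  haveI : IsScalarTower (Localization.AtPrime P) (Localization.AtPrime p)
      (LocalizedModule p.primeCompl M) := IsScalarTower.of_algebraMap_smul fun _ _ => rfl
  haveI : IsScalarTower R (Localization.AtPrime P) (LocalizedModule p.primeCompl M) :=
    IsScalarTower.of_algebraMap_smul fun a x => by
      show φ (algebraMap R _ a) • x = a • x
      rw [hφ, Localization.localRingHom_to_map, algebraMap_smul, algebraMap_smul]
  have hmem : ∀ s : R, s ∈ P.primeCompl ↔ algebraMap R A s ∈ p.primeCompl := fun s => by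
    subst hP
    exact Iff.rfl
  have hsurj : Function.Surjective φ := by
    intro z
    obtain ⟨a, ⟨s, hs⟩, rfl⟩ := IsLocalization.exists_mk'_eq p.primeCompl z
    obtain ⟨a', rfl⟩ := hπ a
    obtain ⟨s', rfl⟩ := hπ s
    exact ⟨IsLocalization.mk' _ a' (⟨s', (hmem s').2 hs⟩ : P.primeCompl),
      Localization.localRingHom_mk' P p (algebraMap R A) hP a' _⟩
  let g : M →ₗ[R] LocalizedModule p.primeCompl M :=
    (LocalizedModule.mkLinearMap p.primeCompl M).restrictScalars R
  haveI : IsLocalizedModule P.primeCompl g := by
    constructor
    · intro s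
      have hu := IsLocalizedModule.map_units (LocalizedModule.mkLinearMap p.primeCompl M)
        (⟨algebraMap R A s, (hmem s).1 s.2⟩ : p.primeCompl)
      rw [Module.End.isUnit_iff] at hu ⊢
      have heq : (fun x : LocalizedModule p.primeCompl M => (s : R) • x) =
          fun x => algebraMap R A s • x := funext fun x => (algebraMap_smul A (s : R) x).symm
      show Function.Bijective fun x : LocalizedModule p.primeCompl M => (s : R) • x
      rw [heq]
      exact hu
    · intro y
      obtain ⟨⟨m, ⟨s, hs⟩⟩, hms⟩ :=
        IsLocalizedModule.surj p.primeCompl (LocalizedModule.mkLinearMap p.primeCompl M) y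
      obtain ⟨s', rfl⟩ := hπ s
      refine ⟨⟨m, ⟨s', (hmem s').2 hs⟩⟩, ?_⟩
      show (s' : R) • y = _
      rw [← algebraMap_smul A]
      exact hms
    · intro x₁ x₂ h
      obtain ⟨⟨c, hc⟩, hcx⟩ := IsLocalizedModule.exists_of_eq (S := p.primeCompl)
        (f := LocalizedModule.mkLinearMap p.primeCompl M) h
      obtain ⟨c', rfl⟩ := hπ c
      refine ⟨⟨c', (hmem c').2 hc⟩, ?_⟩
      show (c' : R) • x₁ = c' • x₂
      rw [← algebraMap_smul A c' x₁, ← algebraMap_smul A c' x₂]
      exact hcx
  let e := (IsLocalizedModule.iso P.primeCompl g).extendScalarsOfIsLocalization P.primeCompl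
    (Localization.AtPrime P)
  rw [subsingleton_H_congr (maximalIdeal (Localization.AtPrime P)) j e]
  obtain ⟨ψ, -⟩ := Groth.LocCohTransform.exists_restrict_addEquiv
    (I := maximalIdeal (Localization.AtPrime P)) (R' := Localization.AtPrime p)
    (LocalizedModule p.primeCompl M) j
  rw [show (maximalIdeal (Localization.AtPrime P)).map
    (algebraMap (Localization.AtPrime P) (Localization.AtPrime p)) = maximalIdeal _ from
      IsLocalRing.map_maximalIdeal_of_surjective φ hsurj] at ψ
  exact ψ.toEquiv.subsingleton_congr

omit [IsNoetherianRing R] in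
/-- Local cohomology of the zero module vanishes. -/
theorem subsingleton_H_of_subsingleton (I : Ideal R) (j : ℕ) (M : Type u) [AddCommGroup M]
    [Module R M] [Subsingleton M] : Subsingleton (LocCoh.H I j M) :=
  subsingleton_of_forall_eq 0 fun x => by
    have h1 : (localCohomology I j).map (0 : ModuleCat.of R M ⟶ ModuleCat.of R M) x = x := by
      rw [show (0 : ModuleCat.of R M ⟶ ModuleCat.of R M) = 𝟙 _ from
        ModuleCat.hom_ext (LinearMap.ext fun _ => Subsingleton.elim _ _)]
      exact Groth.LocCohTransform.map_id' I j _ x
    rw [← h1]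
    exact Groth.LocCohTransform.map_zero' I j x

omit [IsNoetherianRing R] [IsNoetherianRing A] in
/-- A module over a quotient vanishes at primes outside. -/
theorem subsingleton_localized_of_not_le (P : Ideal R) [P.IsPrime]
    (hP : ¬ RingHom.ker (algebraMap R A) ≤ P) (M : Type u) [AddCommGroup M] [Module A M]
    [Module R M] [IsScalarTower R A M] : Subsingleton (LocalizedModule P.primeCompl M) := by
  obtain ⟨s, hs, hsP⟩ := SetLike.not_le_iff_exists.1 hP
  exact LocalizedModule.subsingleton_iff.2 fun m => ⟨s, hsP, by
    rw [← algebraMap_smul A s m, RingHom.mem_ker.1 hs, zero_smul]⟩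

omit [IsNoetherianRing R] [IsNoetherianRing A] in
/-- The quotient by a prime and by its preimage. -/
theorem ringKrullDim_quotient_comap (hπ : Function.Surjective (algebraMap R A)) (p : Ideal A) :
    ringKrullDim (R ⧸ p.comap (algebraMap R A)) = ringKrullDim (A ⧸ p) :=
  ringKrullDim_eq_of_ringEquiv
    (RingEquiv.ofBijective (Ideal.quotientMap p (algebraMap R A) le_rfl)
      ⟨Ideal.quotientMap_injective, Ideal.quotientMap_surjective hπ⟩)

/-- Faltings-type criterion over a quotient of a Gorenstein local ring. -/
theorem le_radical_annihilator_H_iff [IsLocalRing R] [IsLocalRing A] (hR : ∃ n, InjLT R R n)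
    (hπ : Function.Surjective (algebraMap R A)) (M : Type u) [AddCommGroup M] [Module A M]
    [Module.Finite A M] (J : Ideal A) (i : ℕ) :
    J ≤ (Module.annihilator A (LocCoh.H (maximalIdeal A) i M)).radical ↔
      ∀ (p : Ideal A) [p.IsPrime], ¬ J ≤ p → ∀ e j : ℕ, ringKrullDim (A ⧸ p) = e → j + e = i →
        Subsingleton (LocCoh.H (maximalIdeal (Localization.AtPrime p)) j
          (LocalizedModule p.primeCompl M)) := by
  letI : Module R M := Module.compHom M (algebraMap R A)
  haveI : IsScalarTower R A M := IsScalarTower.of_algebraMap_smul fun _ _ => rfl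
  haveI : Module.Finite A A := inferInstance
  haveI : Module.Finite R A :=
    Module.Finite.of_surjective (Algebra.linearMap R A) hπ
  haveI : Module.Finite R M := Module.Finite.trans A M
  have hann : (Module.annihilator A (LocCoh.H (maximalIdeal A) i M)).comap (algebraMap R A) =
      Module.annihilator R (Hm (A := R) i M) := by
    obtain ⟨ψ, hψ⟩ := Groth.LocCohTransform.exists_restrict_addEquiv
      (I := maximalIdeal R) (R' := A) M i
    revert ψ hψ
    rw [IsLocalRing.map_maximalIdeal_of_surjective _ hπ]
    intro ψ hψ
    ext a
    rw [Ideal.mem_comap, Module.mem_annihilator, Module.mem_annihilator]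
    constructor
    · intro h y
      obtain ⟨x, rfl⟩ := ψ.surjective y
      rw [← hψ, h x, map_zero]
    · intro h x
      exact ψ.injective (by rw [hψ, h, map_zero])
  rw [← Ideal.comap_le_comap_iff_of_surjective _ hπ, Ideal.comap_radical, hann,
    le_radical_annihilator_Hm_iff hR M]
  constructor
  · intro h p _ hJ e j he hje
    exact (subsingleton_H_atPrime_iff_of_surjective hπ (p.comap (algebraMap R A)) p rfl M j).2
      (h (p.comap (algebraMap R A))
        (fun hle => hJ ((Ideal.comap_le_comap_iff_of_surjective _ hπ _ _).1 hle)) e j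
        (by rw [ringKrullDim_quotient_comap hπ, he]) hje)
  · intro h P _ hJ e j he hje
    by_cases hker : RingHom.ker (algebraMap R A) ≤ P
    · haveI := Ideal.map_isPrime_of_surjective hπ hker
      have hc : P = (P.map (algebraMap R A)).comap (algebraMap R A) := by
        rw [Ideal.comap_map_of_surjective _ hπ]
        exact (sup_eq_left.2 hker).symm
      refine (subsingleton_H_atPrime_iff_of_surjective hπ P (P.map (algebraMap R A)) hc M j).1
        (h _ (fun hle => hJ (hc ▸ Ideal.comap_mono hle)) e j ?_ hje)
      rw [← ringKrullDim_quotient_comap hπ, ← hc, he]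
    · haveI := subsingleton_localized_of_not_le (A := A) P hker M
      exact subsingleton_H_of_subsingleton _ j _

end Groth.LocDual
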