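import Groth.Agent.LocDual.Quotient
import Groth.Agent.LocCohBase.TopDegree

/-!
The support of the Matlis dual of local cohomology: the bound by the degree and the top degree.
-/

set_option autoImplicit false
universe u

open CategoryTheory IsLocalRing InjHull GrothGoren Groth.LocCohBase

namespace Groth.LocDual

variable {R : Type u} [CommRing R] [IsNoetherianRing R] [IsLocalRing R]

/-- Over a Gorenstein ring the annihilator of `H^i_m(M)` has dimension at most `i`. -/
theorem le_of_annihilator_Hm_le (hR : ∃ n, InjLT R R n) (M : Type u) [AddCommGroup M] [Module R M]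
    [Module.Finite R M] {i e : ℕ} (P : Ideal R) [P.IsPrime]
    (hP : Module.annihilator R (Hm (A := R) i M) ≤ P) (he : ringKrullDim (R ⧸ P) = e) : e ≤ i := by
  obtain ⟨r, hr, -, -, -⟩ := exists_dim R hR
  obtain ⟨h, e', hhe, -, he'⟩ := exists_dim_split (isCohenMacaulay R hR) hr P
  obtain rfl : e' = e := by rw [he] at he'; exact_mod_cast he'.symm
  rcases Nat.lt_or_ge r i with hi | hi
  · omega
  obtain ⟨k, rfl⟩ : ∃ k, r = i + k := ⟨r - i, by omega⟩
  by_contra hlt
  haveI : Module.Finite R (Abelian.Ext (ModuleCat.of R M) (ModuleCat.of R R) k) :=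
    ModuleCat.finite_ext R (ModuleCat.of R M) (ModuleCat.of R R) k
  rw [annihilator_Hm_eq hR hr M rfl] at hP
  exact not_nontrivial_iff_subsingleton.2
    (subsingleton_localized_ext_of_lt hR hr P he M (j := k) (by omega))
    (Module.mem_support_iff.1 ((Module.mem_support_iff_of_finite
      (p := (⟨P, inferInstance⟩ : PrimeSpectrum R))).2 hP))

variable {A : Type u} [CommRing A] [IsNoetherianRing A] [IsLocalRing A] [Algebra R A]

/-- The same over a quotient of a Gorenstein ring. -/
theorem coheight_le_of_annihilator_H_le (hR : ∃ n, InjLT R R n)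
    (hπ : Function.Surjective (algebraMap R A)) (M : Type u) [AddCommGroup M] [Module A M]
    [Module.Finite A M] {i : ℕ} (q : PrimeSpectrum A)
    (hq : Module.annihilator A (LocCoh.H (maximalIdeal A) i M) ≤ q.asIdeal) :
    Order.coheight q ≤ i := by
  letI : Module R M := Module.compHom M (algebraMap R A)
  haveI : IsScalarTower R A M := IsScalarTower.of_algebraMap_smul fun _ _ => rfl
  haveI : Module.Finite R A := Module.Finite.of_surjective (Algebra.linearMap R A) hπ
  haveI : Module.Finite R M := Module.Finite.trans A M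
  obtain ⟨e, he⟩ := ENat.ne_top_iff_exists.1 (Groth.Ega4Algebra1.coheight_ne_top A q)
  rw [← he]
  refine Nat.cast_le.2 (le_of_annihilator_Hm_le hR M (q.asIdeal.comap (algebraMap R A)) ?_ ?_)
  · refine le_trans ?_ (Ideal.comap_mono hq)
    obtain ⟨ψ, hψ⟩ := Groth.LocCohTransform.exists_restrict_addEquiv
      (I := maximalIdeal R) (R' := A) M i
    revert ψ hψ
    rw [IsLocalRing.map_maximalIdeal_of_surjective _ hπ]
    intro ψ hψ a ha
    rw [Ideal.mem_comap, Module.mem_annihilator]
    exact fun x => ψ.injective (by rw [hψ, Module.mem_annihilator.1 ha, map_zero])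
  · rw [ringKrullDim_quotient_comap hπ,
      Groth.Ega4Algebra1.ringKrullDim_quotient_eq_coheight A q, ← he]
    rfl

variable {E : Type u} [AddCommGroup E] [Module R E] {f : ResidueField R →ₗ[R] E}

/-- A prime of top coheight in the support of `M` supports the dual of `H^n_m(M)`. -/
theorem annihilator_H_le_of_coheight_eq (M : Type u) [AddCommGroup M] [Module R M]
    [Module.Finite R M] {n : ℕ} (hn : Module.supportDim R M ≤ n) {q : PrimeSpectrum R}
    (hq : q ∈ Module.support R M) (hco : Order.coheight q = n) :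
    Module.annihilator R (LocCoh.H (maximalIdeal R) n M) ≤ q.asIdeal := by
  intro c hc
  by_contra hcq
  set Q := M ⧸ (q.asIdeal • (⊤ : Submodule R M))
  have hle : Module.supportDim R Q ≤ n := le_trans
    (Module.supportDim_le_of_surjective _ (Submodule.mkQ_surjective _)) hn
  have hmem : q ∈ Module.support R Q := by
    show q ∈ Module.support R (M ⧸ (q.asIdeal • (⊤ : Submodule R M)))
    rw [Module.support_quotient]
    exact ⟨hq, fun x hx => hx⟩
  have hge : ∀ P ∈ Module.support R Q, q ≤ P := fun P hP => by
    have : P ∈ Module.support R M ∩ PrimeSpectrum.zeroLocus (q.asIdeal : Set R) := by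
      rw [← Module.support_quotient]; exact hP
    exact this.2
  have hdim : Module.supportDim R Q = n := by
    refine le_antisymm hle ?_
    by_contra hlt
    exact (lt_irrefl (n : ℕ∞)) (hco ▸ (supportDim_lt_iff Q n).1 (not_le.1 hlt) q hmem)
  haveI : Nontrivial Q := by
    rw [← not_subsingleton_iff_nontrivial, ← Module.support_eq_empty_iff (R := R)]
    exact Set.nonempty_iff_ne_empty.1 ⟨q, hmem⟩
  haveI := nontrivial_H_supportDim Q n hdim
  have hsurj := H_top_map_surjective (maximalIdeal R) (q.asIdeal • (⊤ : Submodule R M)).mkQ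
    (Submodule.mkQ_surjective _) hn
  have hcs := H_top_smul_surjective (maximalIdeal R) Q c hle fun P hP hcP => by
    have hne : q ≠ P := fun h => hcq (by rw [h]; exact hcP)
    have h1 := Order.coheight_add_one_le (lt_of_le_of_ne (hge P hP) hne)
    rw [hco] at h1
    revert h1
    generalize Order.coheight P = t
    cases t with
    | top => simp
    | coe t => intro h1; norm_cast at h1 ⊢
  refine not_subsingleton (LocCoh.H (maximalIdeal R) n Q) (subsingleton_of_forall_eq 0 fun y => ?_)
  obtain ⟨y', hy'⟩ := hcs y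
  obtain ⟨z, hz⟩ := hsurj y'
  rw [← hy', ← hz]
  show c • _ = 0
  rw [← map_smul, show c • z = 0 from Module.mem_annihilator.1 hc z, map_zero]

/-- An element cutting down the dimension is regular on the dual of `H^n_m(M)`. -/
theorem isSMulRegular_dual_top (M : Type u) [AddCommGroup M] [Module R M] [Module.Finite R M]
    {n : ℕ} (hn : Module.supportDim R M ≤ n) {a : R}
    (ha : ∀ q ∈ Module.support R M, a ∈ q.asIdeal → Order.coheight q < n) :
    IsSMulRegular (LocCoh.H (maximalIdeal R) n M →ₗ[R] E) a := by
  refine isSMulRegular_iff_right_eq_zero_of_smul.2 fun φ hφ => LinearMap.ext fun x => ?_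
  obtain ⟨y, rfl⟩ := H_top_smul_surjective (maximalIdeal R) M a hn ha x
  show φ (a • y) = 0
  rw [map_smul]
  exact LinearMap.congr_fun hφ y

/-- The associated primes of the dual of `H^n_m(M)`. -/
theorem mem_associatedPrimes_dual_top_iff (hf : IsInjectiveHull f) (M : Type u) [AddCommGroup M]
    [Module R M] [Module.Finite R M] {n : ℕ} (hn : Module.supportDim R M ≤ n)
    [Module.Finite R (LocCoh.H (maximalIdeal R) n M →ₗ[R] E)] (q : PrimeSpectrum R) :
    q.asIdeal ∈ associatedPrimes R (LocCoh.H (maximalIdeal R) n M →ₗ[R] E) ↔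
      q ∈ Module.support R M ∧ Order.coheight q = n := by
  have hannle : Module.annihilator R M ≤
      Module.annihilator R (LocCoh.H (maximalIdeal R) n M →ₗ[R] E) := by
    rw [← GrothMatlis.annihilator_dual_eq hf]
    intro c hc
    rw [Module.mem_annihilator]
    intro x
    refine (smul_eq_map (I := maximalIdeal R) n (ModuleCat.of R M) c x).trans ?_
    rw [show c • 𝟙 (ModuleCat.of R M) = 0 from
      ModuleCat.hom_ext (LinearMap.ext fun m => Module.mem_annihilator.1 hc m),
      Groth.LocCohTransform.map_zero']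
  have hmin : ∀ P : PrimeSpectrum R, P ∈ Module.support R M → Order.coheight P = n →
      P.asIdeal ∈ (Module.annihilator R M).minimalPrimes := by
    intro P hP hco
    refine ⟨⟨P.isPrime, Module.mem_support_iff_of_finite.1 hP⟩, fun Q hQ hQP => ?_⟩
    by_contra hne
    have h1 := Order.coheight_add_one_le
      (show (⟨Q, hQ.1⟩ : PrimeSpectrum R) < P from lt_of_le_not_ge hQP hne)
    have h2 := (supportDim_le_iff M n).1 hn ⟨Q, hQ.1⟩ (Module.mem_support_iff_of_finite.2 hQ.2)
    rw [hco] at h1
    have h3 := h1.trans h2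
    norm_cast at h3
    omega
  constructor
  · intro hq
    set W := {P : Ideal R | ∃ h : P.IsPrime,
      (⟨P, h⟩ : PrimeSpectrum R) ∈ Module.support R M ∧
        Order.coheight (⟨P, h⟩ : PrimeSpectrum R) = n}
    have hWfin : W.Finite :=
      ((Module.annihilator R M).finite_minimalPrimes_of_isNoetherianRing R).subset
        fun P ⟨h, hP, hco⟩ => hmin ⟨P, h⟩ hP hco
    have hsub : (q.asIdeal : Set R) ⊆ ⋃ P ∈ W, (P : Set R) := by
      intro a ha
      by_contra hnot
      have hreg := isSMulRegular_dual_top (E := E) M hn (a := a) fun P hP haP =>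
        lt_of_le_of_ne ((supportDim_le_iff M n).1 hn P hP)
          fun h => hnot (Set.mem_biUnion (x := P.asIdeal) ⟨P.isPrime, hP, h⟩ haP)
      have hmem : a ∈ ⋃ P ∈ associatedPrimes R (LocCoh.H (maximalIdeal R) n M →ₗ[R] E),
          (P : Set R) := Set.mem_biUnion hq ha
      rw [biUnion_associatedPrimes_eq_compl_regular] at hmem
      exact hmem hreg
    obtain ⟨P, ⟨hPp, hP, hco⟩, hle⟩ := (q.asIdeal.subset_union_prime_finite hWfin
      (f := id) 0 0 fun Q h _ _ => h.1).1 hsub
    have hann : Module.annihilator R M ≤ q.asIdeal :=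
      hannle.trans (IsAssociatedPrime.annihilator_le hq |>.trans' (by rw [Submodule.annihilator_top]))
    obtain rfl : q = ⟨P, hPp⟩ := PrimeSpectrum.ext
      (le_antisymm hle ((hmin ⟨P, hPp⟩ hP hco).2 ⟨q.isPrime, hann⟩ hle))
    exact ⟨hP, hco⟩
  · rintro ⟨hq, hco⟩
    have hle : Module.annihilator R (LocCoh.H (maximalIdeal R) n M →ₗ[R] E) ≤ q.asIdeal := by
      rw [← GrothMatlis.annihilator_dual_eq hf]
      exact annihilator_H_le_of_coheight_eq M hn hq hco
    obtain ⟨P, hP, hPq⟩ := Ideal.exists_minimalPrimes_le hle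
    have hPeq : P = q.asIdeal :=
      le_antisymm hPq ((hmin q hq hco).2 ⟨hP.1.1, hannle.trans hP.1.2⟩ hPq)
    exact hPeq ▸ Module.associatedPrimes.minimalPrimes_annihilator_subset_associatedPrimes R _ hP

end Groth.LocDual
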