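import Groth.Agent.LocDual.TopCofinite

/-!
The coassociated primes of the top local cohomology with respect to an ideal.
-/

set_option autoImplicit false
set_option maxHeartbeats 4000000
universe u

open CategoryTheory IsLocalRing InjHull GrothGoren Groth.LocCohBase

namespace Groth.LocDual

variable {R : Type u} [CommRing R] [IsNoetherianRing R] [IsLocalRing R]
  [IsAdicComplete (maximalIdeal R) R] {E : Type u} [AddCommGroup E] [Module R E]
  {f : ResidueField R →ₗ[R] E}

/-- A coassociated prime of `H^n_I(M)`. -/
theorem mem_of_mem_associatedPrimes_dual_H (hf : IsInjectiveHull f) (I : Ideal R) (M : Type u)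
    [AddCommGroup M] [Module R M] [Module.Finite R M] {n : ℕ} (hn : Module.supportDim R M ≤ n)
    {p : Ideal R} (hp : p ∈ associatedPrimes R (LocCoh.H I n M →ₗ[R] E)) :
    p.IsPrime ∧ Module.annihilator R M ≤ p ∧ ringKrullDim (R ⧸ p) = n ∧
      (I ⊔ p).radical = maximalIdeal R := by
  haveI := hp.isPrime
  haveI := isArtinian_H_top I M n hn
  have hI : I ≠ ⊤ := by
    rintro rfl
    haveI := subsingleton_H_top (A := R) n M
    haveI : Subsingleton (LocCoh.H (⊤ : Ideal R) n M →ₗ[R] E) := inferInstance
    rw [associatedPrimes.eq_empty_of_subsingleton] at hp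
    exact hp
  have hannX : Module.annihilator R M ≤ p := by
    refine le_trans ?_ (IsAssociatedPrime.annihilator_le hp |>.trans' (by rw [Submodule.annihilator_top]))
    rw [← GrothMatlis.annihilator_dual_eq hf]
    intro c hc
    rw [Module.mem_annihilator]
    intro x
    refine (smul_eq_map (I := I) n (ModuleCat.of R M) c x).trans ?_
    rw [show c • 𝟙 (ModuleCat.of R M) = 0 from
      ModuleCat.hom_ext (LinearMap.ext fun m => Module.mem_annihilator.1 hc m),
      Groth.LocCohTransform.map_zero']
  have hmin : ∀ P : PrimeSpectrum R, P ∈ Module.support R M → Order.coheight P = n →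
      P.asIdeal ∈ (Module.annihilator R M).minimalPrimes := by
    intro P hP hco
    refine ⟨⟨P.isPrime, Module.mem_support_iff_of_finite.1 hP⟩, fun P' hP' hP'P => ?_⟩
    by_contra hne
    have h1 := Order.coheight_add_one_le
      (show (⟨P', hP'.1⟩ : PrimeSpectrum R) < P from lt_of_le_not_ge hP'P hne)
    have h2 := (supportDim_le_iff M n).1 hn ⟨P', hP'.1⟩ (Module.mem_support_iff_of_finite.2 hP'.2)
    rw [hco] at h1
    have h3 := h1.trans h2
    norm_cast at h3
    omega
  set W := {P : Ideal R | ∃ h : P.IsPrime,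
    (⟨P, h⟩ : PrimeSpectrum R) ∈ Module.support R M ∧
      Order.coheight (⟨P, h⟩ : PrimeSpectrum R) = n ∧
        ∀ Q' : PrimeSpectrum R, I ⊔ P ≤ Q'.asIdeal → Q'.asIdeal = maximalIdeal R}
  have hWfin : W.Finite :=
    ((Module.annihilator R M).finite_minimalPrimes_of_isNoetherianRing R).subset
      fun P ⟨h, hP, hco, _⟩ => hmin ⟨P, h⟩ hP hco
  have hsub : (p : Set R) ⊆ ⋃ P ∈ W, (P : Set R) := by
    intro a ha
    by_contra hnot
    let g : M →ₗ[R] M := LinearMap.lsmul R M a
    have hS := GrothGoren.seqCx_shortExact (LinearMap.range g).subtype (LinearMap.range g).mkQ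
      (LinearMap.exact_subtype_mkQ _) (Submodule.injective_subtype _) (Submodule.mkQ_surjective _)
    haveI : Subsingleton (HH' I n (ModuleCat.of R (M ⧸ LinearMap.range g))) :=
      subsingleton_H_top_complete I n (M ⧸ LinearMap.range g) fun P hP => by
        obtain ⟨haP, hPX⟩ := mem_of_mem_support_quotient g (fun _ => rfl) hP
        refine ⟨(supportDim_le_iff M n).1 hn P hPX, fun hco => ?_⟩
        by_contra hno
        push Not at hno
        exact hnot (Set.mem_biUnion (x := P.asIdeal) ⟨P.isPrime, hPX, hco, hno⟩ haP)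
    have hreg : IsSMulRegular (LocCoh.H I n M →ₗ[R] E) a := by
      refine isSMulRegular_iff_right_eq_zero_of_smul.2 fun φ hφ => LinearMap.ext fun y => ?_
      obtain ⟨w, hw⟩ := (exact₂ (I := I) hS n y).1 (Subsingleton.elim _ _)
      obtain ⟨x, hx⟩ := H_top_map_surjective I g.rangeRestrict g.surjective_rangeRestrict hn w
      have hxy : a • x = y := by
        refine (smul_eq_map (I := I) n (ModuleCat.of R M) a x).trans ?_
        rw [show a • 𝟙 (ModuleCat.of R M) = ModuleCat.ofHom g.rangeRestrict ≫
          ModuleCat.ofHom (LinearMap.range g).subtype from ModuleCat.hom_ext rfl,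
          Groth.LocCohTransform.map_comp', hx]
        exact hw
      rw [← hxy, map_smul]
      exact LinearMap.congr_fun hφ x
    have hmem : a ∈ ⋃ P ∈ associatedPrimes R (LocCoh.H I n M →ₗ[R] E), (P : Set R) :=
      Set.mem_biUnion hp ha
    haveI := (GrothMatlis.duality_artinian hf (LocCoh.H I n M)).1
    rw [biUnion_associatedPrimes_eq_compl_regular] at hmem
    exact hmem hreg
  obtain ⟨P, ⟨hPp, hP, hco, hbad⟩, hle⟩ := (p.subset_union_prime_finite hWfin
    (f := id) 0 0 fun Q' h _ _ => h.1).1 hsub
  obtain rfl : p = P := le_antisymm hle ((hmin ⟨P, hPp⟩ hP hco).2 ⟨inferInstance, hannX⟩ hle)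
  refine ⟨hPp, hannX, ?_, ?_⟩
  · rw [show ringKrullDim (R ⧸ p) = _ from
      Groth.Ega4Algebra1.ringKrullDim_quotient_eq_coheight R ⟨p, hPp⟩, hco]
    rfl
  · refine le_antisymm ((maximalIdeal.isMaximal R).isPrime.radical_le_iff.2
      (sup_le (IsLocalRing.le_maximalIdeal hI) (IsLocalRing.le_maximalIdeal hPp.ne_top))) ?_
    rw [Ideal.radical_eq_sInf]
    exact le_sInf fun Q ⟨hQ, hQp⟩ => (hbad ⟨Q, hQp⟩ hQ).ge

/-- A top component cut down to the closed point is coassociated. -/
theorem mem_associatedPrimes_dual_H (hf : IsInjectiveHull f) (I : Ideal R) (M : Type u)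
    [AddCommGroup M] [Module R M] [Module.Finite R M] {n : ℕ} (hn : Module.supportDim R M ≤ n)
    {p : Ideal R} (hp : p.IsPrime) (hann : Module.annihilator R M ≤ p)
    (hdim : ringKrullDim (R ⧸ p) = n) (hrad : (I ⊔ p).radical = maximalIdeal R) :
    p ∈ associatedPrimes R (LocCoh.H I n M →ₗ[R] E) := by
  haveI := isArtinian_H_top I M n hn
  haveI := (GrothMatlis.duality_artinian hf (LocCoh.H I n M)).1
  let P : PrimeSpectrum R := ⟨p, hp⟩
  have hco : Order.coheight P = n := by
    rw [show ringKrullDim (R ⧸ p) = _ from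
      Groth.Ega4Algebra1.ringKrullDim_quotient_eq_coheight R P] at hdim
    exact WithBot.coe_injective hdim
  set X := M ⧸ (p • (⊤ : Submodule R M))
  letI : Module (R ⧸ p) X := inferInstance
  have hmem : P ∈ Module.support R X := by
    show P ∈ Module.support R (M ⧸ (p • (⊤ : Submodule R M)))
    rw [Module.support_quotient]
    exact ⟨Module.mem_support_iff_of_finite.2 hann, fun x hx => hx⟩
  have hge : ∀ Q ∈ Module.support R X, P ≤ Q := fun Q hQ => by
    have : Q ∈ Module.support R M ∩ PrimeSpectrum.zeroLocus (p : Set R) := by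
      rw [← Module.support_quotient]; exact hQ
    exact this.2
  have hleX : Module.supportDim R X ≤ n :=
    (Module.supportDim_le_of_surjective _ (Submodule.mkQ_surjective _)).trans hn
  have hdimX : Module.supportDim R X = n := by
    refine le_antisymm hleX ?_
    by_contra hlt
    exact (lt_irrefl (n : ℕ∞)) (hco ▸ (supportDim_lt_iff X n).1 (not_le.1 hlt) P hmem)
  haveI : Nontrivial X := by
    rw [← not_subsingleton_iff_nontrivial, ← Module.support_eq_empty_iff (R := R)]
    exact Set.nonempty_iff_ne_empty.1 ⟨P, hmem⟩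
  -- `H^n_I(X) = H^n_m(X)`
  haveI := nontrivial_H_supportDim X n hdimX
  haveI hXI : Nontrivial (LocCoh.H I n X) := by
    by_contra hX
    rw [not_nontrivial_iff_subsingleton] at hX
    obtain ⟨ψ, -⟩ := Groth.LocCohTransform.exists_restrict_addEquiv (R := R) (R' := R ⧸ p) I X n
    obtain ⟨χ, -⟩ := Groth.LocCohTransform.exists_restrict_addEquiv (R := R) (R' := R ⧸ p)
      (maximalIdeal R) X n
    have hradA : ((maximalIdeal R).map (algebraMap R (R ⧸ p))).radical =
        (I.map (algebraMap R (R ⧸ p))).radical := by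
      have h1 : (I ⊔ p).map (algebraMap R (R ⧸ p)) = I.map (algebraMap R (R ⧸ p)) := by
        rw [Ideal.map_sup, Ideal.Quotient.algebraMap_eq, Ideal.map_quotient_self, sup_bot_eq]
      refine le_antisymm ?_ (Ideal.radical_mono (Ideal.map_mono ?_))
      · rw [← h1, ← hrad]
        exact Ideal.radical_le_radical_iff.2 (Ideal.map_radical_le _)
      · rw [← hrad]
        exact le_trans le_sup_left Ideal.le_radical
    haveI := ψ.toEquiv.subsingleton
    exact not_subsingleton (LocCoh.H (maximalIdeal R) n X)
      (χ.symm.toEquiv.subsingleton_congr.2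
        (Groth.LocCohTransform.subsingleton_H_of_radical_eq hradA n X inferInstance))
  have hle : Module.annihilator R (LocCoh.H I n M →ₗ[R] E) ≤ p := by
    rw [← GrothMatlis.annihilator_dual_eq hf]
    intro c hc
    by_contra hcp
    have hsurj := H_top_map_surjective I (p • (⊤ : Submodule R M)).mkQ
      (Submodule.mkQ_surjective _) hn
    have hcs := H_top_smul_surjective I X c hleX fun Q hQ hcQ => by
      have hne : P ≠ Q := fun h => hcp (by
        have := congrArg PrimeSpectrum.asIdeal h
        exact (this.symm ▸ hcQ : c ∈ P.asIdeal))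
      have h1 := Order.coheight_add_one_le (lt_of_le_of_ne (hge Q hQ) hne)
      rw [hco] at h1
      revert h1
      generalize Order.coheight Q = t
      cases t with
      | top => simp
      | coe t => intro h1; norm_cast at h1 ⊢
    refine not_subsingleton (LocCoh.H I n X) (subsingleton_of_forall_eq 0 fun y => ?_)
    obtain ⟨y', hy'⟩ := hcs y
    obtain ⟨z, hz⟩ := hsurj y'
    rw [← hy', ← hz]
    show c • _ = 0
    rw [← map_smul, show c • z = 0 from Module.mem_annihilator.1 hc z, map_zero]
  obtain ⟨Q, hQ, hQp⟩ := Ideal.exists_minimalPrimes_le hle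
  have hannle : Module.annihilator R M ≤ Q := by
    refine le_trans ?_ hQ.1.2
    rw [← GrothMatlis.annihilator_dual_eq hf]
    intro c hc
    rw [Module.mem_annihilator]
    intro x
    refine (smul_eq_map (I := I) n (ModuleCat.of R M) c x).trans ?_
    rw [show c • 𝟙 (ModuleCat.of R M) = 0 from
      ModuleCat.hom_ext (LinearMap.ext fun m => Module.mem_annihilator.1 hc m),
      Groth.LocCohTransform.map_zero']
  haveI := hQ.1.1
  have hQeq : Q = p := by
    by_contra hne
    have h1 := Order.coheight_add_one_le (show (⟨Q, inferInstance⟩ : PrimeSpectrum R) < P from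
      lt_of_le_of_ne hQp fun h => hne (congrArg PrimeSpectrum.asIdeal h))
    rw [hco] at h1
    have h2 := h1.trans ((supportDim_le_iff M n).1 hn ⟨Q, inferInstance⟩
      (Module.mem_support_iff_of_finite.2 hannle))
    norm_cast at h2
    omega
  exact hQeq ▸ Module.associatedPrimes.minimalPrimes_annihilator_subset_associatedPrimes R _ hQ

end Groth.LocDual
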