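import Groth.Agent.LocDual.HullChange
import Groth.Agent.LocCohTransform.CompletionHLVT
import Groth.Agent.LocCohTransform.HLVT
import Groth.Agent.LocCohBase.TopDegreeApps

/-!
The top local cohomology with respect to any ideal is cofinite.
-/

set_option autoImplicit false
universe u

open CategoryTheory IsLocalRing InjHull GrothGoren Groth.LocCohBase TensorProduct

namespace Groth.LocDual

section Complete

variable {B : Type u} [CommRing B] [IsLocalRing B] [IsNoetherianRing B]
  [IsAdicComplete (maximalIdeal B) B]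

/-- Hartshorne–Lichtenbaum for modules over a complete local ring. -/
theorem subsingleton_H_top_complete (J : Ideal B) (n : ℕ) (X : Type u) [AddCommGroup X] [Module B X]
    [Module.Finite B X]
    (hX : ∀ q ∈ Module.support B X, Order.coheight q ≤ n ∧ (Order.coheight q = n →
      ∃ Q : PrimeSpectrum B, J ⊔ q.asIdeal ≤ Q.asIdeal ∧ Q.asIdeal ≠ maximalIdeal B)) :
    Subsingleton (LocCoh.H J n X) := by
  revert hX
  refine IsNoetherianRing.induction_on_isQuotientEquivQuotientPrime (A := B) (M := X) inferInstance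
    (motive := fun N _ _ _ => (∀ q ∈ Module.support B N, Order.coheight q ≤ n ∧
      (Order.coheight q = n → ∃ Q : PrimeSpectrum B, J ⊔ q.asIdeal ≤ Q.asIdeal ∧
        Q.asIdeal ≠ maximalIdeal B)) → Subsingleton (LocCoh.H J n N))
    (fun N _ _ _ _ _ => ?_) (fun N _ _ _ p e hN => ?_)
    (fun N₁ _ _ _ N₂ _ _ _ N₃ _ _ _ f g hf hg hex h1 h3 hN => ?_)
  · exact subsingleton_H_of_subsingleton J n N
  · refine (subsingleton_H_congr J n e).2 ?_
    have hp : p ∈ Module.support B N := by
      rw [e.support_eq, Module.mem_support_iff_of_finite, Ideal.annihilator_quotient]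
    have hple : Module.supportDim B (B ⧸ p.asIdeal) ≤ n := by
      rw [Module.supportDim_quotient_eq_ringKrullDim,
        Groth.Ega4Algebra1.ringKrullDim_quotient_eq_coheight B p]
      exact WithBot.coe_le_coe.2 (hN p hp).1
    rcases lt_or_eq_of_le hple with hlt | heq
    · exact subsingleton_H_of_supportDim_lt J _ hlt
    rw [Module.supportDim_quotient_eq_ringKrullDim] at heq
    obtain ⟨Q, hQ, hQm⟩ := (hN p hp).2 (by
      rw [Groth.Ega4Algebra1.ringKrullDim_quotient_eq_coheight B p] at heq
      exact WithBot.coe_injective heq)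
    haveI : IsLocalRing (B ⧸ p.asIdeal) :=
      .of_surjective' (Ideal.Quotient.mk p.asIdeal) Ideal.Quotient.mk_surjective
    haveI := Groth.FrobLCI.CE.isAdicComplete_quotient p.asIdeal
    have hpos : 0 < ringKrullDim ((B ⧸ p.asIdeal) ⧸ J.map (Ideal.Quotient.mk p.asIdeal)) := by
      rw [Groth.LocCohTransform.HLVT.quotient_quotient_dim]
      refine lt_of_lt_of_le ?_ (ringKrullDim_le_of_surjective (Ideal.Quotient.factor hQ)
        (Ideal.Quotient.factor_surjective _))
      rw [Groth.Ega4Algebra1.ringKrullDim_quotient_eq_coheight B Q]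
      refine WithBot.coe_lt_coe.2 (lt_of_lt_of_le zero_lt_one (le_trans ?_ (Order.coheight_add_one_le
        (show Q < IsLocalRing.closedPoint B from lt_of_le_of_ne
          (IsLocalRing.le_maximalIdeal Q.isPrime.ne_top)
          fun h => hQm (congrArg PrimeSpectrum.asIdeal h)))))
      exact le_add_self
    have hdom := Groth.LocCohTransform.HLVT.subsingleton_H_domain (B ⧸ p.asIdeal) heq _ hpos
    obtain ⟨ψ, -⟩ := Groth.LocCohTransform.exists_restrict_addEquiv (R := B) (R' := B ⧸ p.asIdeal)
      J (B ⧸ p.asIdeal) n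
    exact ψ.symm.toEquiv.subsingleton
  · have hsub := Module.support_of_exact (R := B) hex hf hg
    exact subsingleton_X₂ (I := J) (GrothGoren.seqCx_shortExact f g hex hf hg) n
      (h1 fun q hq => hN q (by rw [hsub]; exact Or.inl hq))
      (h3 fun q hq => hN q (by rw [hsub]; exact Or.inr hq))

/-- Over a complete local ring, `J` together with what kills `H^n_J(X)` is primary to the closed
point. -/
theorem eq_maximalIdeal_of_annihilator_H_top_le (J : Ideal B) (X : Type u) [AddCommGroup X]
    [Module B X] [Module.Finite B X] {n : ℕ} (hX : Module.supportDim B X ≤ n) (Q : Ideal B)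
    [Q.IsPrime] (hQ : J ⊔ Module.annihilator B (LocCoh.H J n X) ≤ Q) : Q = maximalIdeal B := by
  obtain ⟨E, _, _, f, hf⟩ := GrothMatlis.exists_hull B (ResidueField B)
  haveI := isArtinian_H_top J X n hX
  haveI := (GrothMatlis.duality_artinian hf (LocCoh.H J n X)).1
  have hannX : Module.annihilator B X ≤ Module.annihilator B (LocCoh.H J n X →ₗ[B] E) := by
    rw [← GrothMatlis.annihilator_dual_eq hf]
    intro c hc
    rw [Module.mem_annihilator]
    intro x
    refine (smul_eq_map (I := J) n (ModuleCat.of B X) c x).trans ?_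
    rw [show c • 𝟙 (ModuleCat.of B X) = 0 from
      ModuleCat.hom_ext (LinearMap.ext fun m => Module.mem_annihilator.1 hc m),
      Groth.LocCohTransform.map_zero']
  have hQD : Module.annihilator B (LocCoh.H J n X →ₗ[B] E) ≤ Q := by
    rw [← GrothMatlis.annihilator_dual_eq hf]
    exact le_trans le_sup_right hQ
  obtain ⟨q, hq, hqQ⟩ := Ideal.exists_minimalPrimes_le hQD
  have hass := Module.associatedPrimes.minimalPrimes_annihilator_subset_associatedPrimes B
    (LocCoh.H J n X →ₗ[B] E) hq
  have hmin : ∀ P : PrimeSpectrum B, P ∈ Module.support B X → Order.coheight P = n →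
      P.asIdeal ∈ (Module.annihilator B X).minimalPrimes := by
    intro P hP hco
    refine ⟨⟨P.isPrime, Module.mem_support_iff_of_finite.1 hP⟩, fun P' hP' hP'P => ?_⟩
    by_contra hne
    have h1 := Order.coheight_add_one_le
      (show (⟨P', hP'.1⟩ : PrimeSpectrum B) < P from lt_of_le_not_ge hP'P hne)
    have h2 := (supportDim_le_iff X n).1 hX ⟨P', hP'.1⟩ (Module.mem_support_iff_of_finite.2 hP'.2)
    rw [hco] at h1
    have h3 := h1.trans h2
    norm_cast at h3
    omega
  set W := {P : Ideal B | ∃ h : P.IsPrime,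
    (⟨P, h⟩ : PrimeSpectrum B) ∈ Module.support B X ∧
      Order.coheight (⟨P, h⟩ : PrimeSpectrum B) = n ∧
        ∀ Q' : PrimeSpectrum B, J ⊔ P ≤ Q'.asIdeal → Q'.asIdeal = maximalIdeal B}
  have hWfin : W.Finite :=
    ((Module.annihilator B X).finite_minimalPrimes_of_isNoetherianRing B).subset
      fun P ⟨h, hP, hco, _⟩ => hmin ⟨P, h⟩ hP hco
  have hsub : (q : Set B) ⊆ ⋃ P ∈ W, (P : Set B) := by
    intro a ha
    by_contra hnot
    let g : X →ₗ[B] X := LinearMap.lsmul B X a
    have hS := GrothGoren.seqCx_shortExact (LinearMap.range g).subtype (LinearMap.range g).mkQ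
      (LinearMap.exact_subtype_mkQ _) (Submodule.injective_subtype _) (Submodule.mkQ_surjective _)
    haveI : Subsingleton (HH' J n (ModuleCat.of B (X ⧸ LinearMap.range g))) :=
      subsingleton_H_top_complete J n (X ⧸ LinearMap.range g) fun P hP => by
        obtain ⟨haP, hPX⟩ := mem_of_mem_support_quotient g (fun _ => rfl) hP
        refine ⟨(supportDim_le_iff X n).1 hX P hPX, fun hco => ?_⟩
        by_contra hno
        push Not at hno
        exact hnot (Set.mem_biUnion (x := P.asIdeal) ⟨P.isPrime, hPX, hco, hno⟩ haP)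
    have hreg : IsSMulRegular (LocCoh.H J n X →ₗ[B] E) a := by
      refine isSMulRegular_iff_right_eq_zero_of_smul.2 fun φ hφ => LinearMap.ext fun y => ?_
      obtain ⟨w, hw⟩ := (exact₂ (I := J) hS n y).1 (Subsingleton.elim _ _)
      obtain ⟨x, hx⟩ := H_top_map_surjective J g.rangeRestrict g.surjective_rangeRestrict hX w
      have hxy : a • x = y := by
        refine (smul_eq_map (I := J) n (ModuleCat.of B X) a x).trans ?_
        rw [show a • 𝟙 (ModuleCat.of B X) = ModuleCat.ofHom g.rangeRestrict ≫
          ModuleCat.ofHom (LinearMap.range g).subtype from ModuleCat.hom_ext rfl,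
          Groth.LocCohTransform.map_comp', hx]
        exact hw
      rw [← hxy, map_smul]
      exact LinearMap.congr_fun hφ x
    have hmem : a ∈ ⋃ P ∈ associatedPrimes B (LocCoh.H J n X →ₗ[B] E), (P : Set B) :=
      Set.mem_biUnion hass ha
    rw [biUnion_associatedPrimes_eq_compl_regular] at hmem
    exact hmem hreg
  obtain ⟨P, ⟨hPp, hP, hco, hbad⟩, hle⟩ := (q.subset_union_prime_finite hWfin
    (f := id) 0 0 fun Q' h _ _ => h.1).1 hsub
  have hqP : q = P := le_antisymm hle ((hmin ⟨P, hPp⟩ hP hco).2 ⟨hq.1.1, hannX.trans hq.1.2⟩ hle)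
  exact hbad ⟨Q, inferInstance⟩ (sup_le (le_sup_left.trans hQ) (hqP ▸ hqQ))

end Complete

variable {R : Type u} [CommRing R] [IsNoetherianRing R]

/-- `Ext` from a finite module into an Artinian one is Artinian. -/
theorem isArtinian_ext (H : Type u) [AddCommGroup H] [Module R H] [IsArtinian R H] :
    ∀ (i : ℕ) (M : Type u) [AddCommGroup M] [Module R M] [Module.Finite R M],
      IsArtinian R (Abelian.Ext (ModuleCat.of R M) (ModuleCat.of R H) i) := by
  intro i
  induction i with
  | zero =>
    intro M _ _ _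
    obtain ⟨n, g, hg⟩ := Module.Finite.exists_fin' R M
    haveI : IsArtinian R ((Fin n → R) →ₗ[R] H) :=
      (Module.Basis.constr (Pi.basisFun R (Fin n)) R).isArtinian_iff.1 inferInstance
    haveI : IsArtinian R (M →ₗ[R] H) :=
      isArtinian_of_injective (LinearMap.lcomp R H g) (LinearMap.lcomp_injective_of_surjective g hg)
    exact ((Abelian.Ext.linearEquiv₀ (R := R)).trans (ModuleCat.homLinearEquiv (S := R)
      (M := ModuleCat.of R M) (N := ModuleCat.of R H))).isArtinian_iff.2 inferInstance
  | succ i ih =>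
    intro M _ _ _
    obtain ⟨n, g, hg⟩ := Module.Finite.exists_fin' R M
    have hS := seqCx_shortExact (LinearMap.ker g).subtype g (LinearMap.exact_subtype_ker_map g)
      (Submodule.injective_subtype _) hg
    haveI := ih (LinearMap.ker g)
    refine isArtinian_of_surjective
      (Abelian.Ext (ModuleCat.of R (LinearMap.ker g)) (ModuleCat.of R H) i)
      (hS.extClass.precompOfLinear R (ModuleCat.of R H) (Nat.add_comm 1 i)) fun x => ?_
    obtain ⟨y, hy⟩ := Abelian.Ext.contravariant_sequence_exact₃ hS (ModuleCat.of R H) x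
      (Subsingleton.elim (h := extZ_of_projective) _ _) (Nat.add_comm 1 i)
    exact ⟨y, hy⟩

variable [IsLocalRing R]

/-- The top local cohomology with respect to `I` is `I`-cofinite. -/
theorem isFiniteLength_ext_quotient_H_top (I : Ideal R) (M : Type u) [AddCommGroup M] [Module R M]
    [Module.Finite R M] {n : ℕ} (hn : Module.supportDim R M = n) (i : ℕ) :
    IsFiniteLength R (Abelian.Ext (ModuleCat.of R (R ⧸ I)) (ModuleCat.of R (LocCoh.H I n M)) i) := by
  classical
  haveI := isNoetherianRing_cpl R
  let T := AdicCompletion (maximalIdeal R) R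
  let J := I.map (algebraMap R T)
  let H := LocCoh.H I n M
  haveI : IsArtinian R H := isArtinian_H_top I M n hn.le
  haveI : Module.Finite R (R ⧸ I) := inferInstance
  haveI := isArtinian_ext (R := R) H i (R ⧸ I)
  obtain ⟨e⟩ := Groth.LocCohTransform.nonempty_baseChange_equiv T I M n
  let bij := LinearEquiv.ofBijective (TensorProduct.mk R T H 1)
    (GrothMatlis.completion_tensor_bijective (GrothMatlis.isPowerTorsion_of_isArtinian (R := R) H))
  let act : T → (H →ₗ[R] H) := fun t =>
    bij.symm.toLinearMap ∘ₗ (LinearMap.lsmul T (T ⊗[R] H) t).restrictScalars R ∘ₗ bij.toLinearMap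
  have hact : ∀ t x, bij (act t x) = t • bij x := fun t x => bij.apply_symm_apply _
  -- the elements of `T` acting by zero on `Ext`
  let Z : Set T := {t | ∀ y : Abelian.Ext (ModuleCat.of R (R ⧸ I)) (ModuleCat.of R H) i,
    y.comp (Abelian.Ext.mk₀ (ModuleCat.ofHom (act t))) (add_zero i) = 0}
  have hadd : ∀ s t, s ∈ Z → t ∈ Z → s + t ∈ Z := fun s t hs ht y => by
    rw [show ModuleCat.ofHom (act (s + t)) = ModuleCat.ofHom (act s) + ModuleCat.ofHom (act t) from
      ModuleCat.hom_ext (LinearMap.ext fun x => bij.injective (by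
        show bij (act (s + t) x) = bij (act s x + act t x)
        rw [map_add, hact, hact, hact, add_smul])),
      Abelian.Ext.mk₀_add, Abelian.Ext.comp_add, hs y, ht y, add_zero]
  have hmul : ∀ s t, t ∈ Z → s * t ∈ Z := fun s t ht y => by
    rw [show ModuleCat.ofHom (act (s * t)) = ModuleCat.ofHom (act t) ≫ ModuleCat.ofHom (act s) from
      ModuleCat.hom_ext (LinearMap.ext fun x => bij.injective (by
        show bij (act (s * t) x) = bij (act s (act t x))
        rw [hact, hact, hact, mul_smul])),
      ← Abelian.Ext.mk₀_comp_mk₀, ← Abelian.Ext.comp_assoc_of_second_deg_zero, ht y,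
      Abelian.Ext.zero_comp]
  have hsmul : ∀ (r : R) (y : Abelian.Ext (ModuleCat.of R (R ⧸ I)) (ModuleCat.of R H) i),
      y.comp (Abelian.Ext.mk₀ (ModuleCat.ofHom (act (algebraMap R T r)))) (add_zero i) = r • y := by
    intro r y
    rw [show ModuleCat.ofHom (act (algebraMap R T r)) = r • 𝟙 (ModuleCat.of R H) from
      ModuleCat.hom_ext (LinearMap.ext fun x => bij.injective (by
        show bij (act (algebraMap R T r) x) = bij (r • x)
        rw [hact, algebraMap_smul, map_smul])),
      Abelian.Ext.mk₀_smul, Abelian.Ext.comp_smul, Abelian.Ext.comp_mk₀_id]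
  have hJ : ∀ t ∈ J, t ∈ Z := by
    intro t ht
    refine Submodule.span_induction ?_ ?_ (fun s t _ _ hs ht => hadd s t hs ht)
      (fun s t _ ht => hmul s t ht) ht
    · rintro _ ⟨r, hr, rfl⟩ y
      rw [hsmul]
      have h0 : r • y = (r • Abelian.Ext.mk₀ (𝟙 (ModuleCat.of R (R ⧸ I)))).comp y (zero_add i) := by
        rw [Abelian.Ext.smul_comp, Abelian.Ext.mk₀_id_comp]
      rw [h0, ← Abelian.Ext.mk₀_smul, show r • 𝟙 (ModuleCat.of R (R ⧸ I)) = 0 from
        ModuleCat.hom_ext (LinearMap.ext fun z => ?_), Abelian.Ext.mk₀_zero, Abelian.Ext.zero_comp]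
      obtain ⟨z, rfl⟩ := Submodule.Quotient.mk_surjective _ z
      exact (Submodule.Quotient.mk_eq_zero I).2 (I.mul_mem_right z hr)
    · intro y
      rw [show ModuleCat.ofHom (act 0) = 0 from ModuleCat.hom_ext (LinearMap.ext fun x =>
          bij.injective (by
            show bij (act 0 x) = bij 0
            rw [hact, zero_smul, map_zero])),
        Abelian.Ext.mk₀_zero, Abelian.Ext.comp_zero]
  have hb : ∀ t ∈ Module.annihilator T (LocCoh.H J n (T ⊗[R] M)), t ∈ Z := by
    intro t ht y
    rw [show ModuleCat.ofHom (act t) = 0 from ModuleCat.hom_ext (LinearMap.ext fun x =>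
      bij.injective (e.injective (by
        show e (bij (act t x)) = e (bij 0)
        rw [hact, map_smul, Module.mem_annihilator.1 ht, map_zero, map_zero]))),
      Abelian.Ext.mk₀_zero, Abelian.Ext.comp_zero]
  haveI : Module.Finite T (T ⊗[R] M) := Module.Finite.base_change R T M
  have hrad : maximalIdeal T ≤ (J ⊔ Module.annihilator T (LocCoh.H J n (T ⊗[R] M))).radical := by
    rw [Ideal.radical_eq_sInf]
    refine le_sInf fun Q ⟨hQle, hQp⟩ => ?_
    haveI := hQp
    exact (eq_maximalIdeal_of_annihilator_H_top_le J (T ⊗[R] M) (supportDim_cpl R M hn).le Q hQle).ge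
  obtain ⟨N, hN⟩ := Ideal.exists_pow_le_of_le_radical_of_fg hrad (IsNoetherian.noetherian _)
  have hkill : ∀ (y : Abelian.Ext (ModuleCat.of R (R ⧸ I)) (ModuleCat.of R H) i),
      ∀ r ∈ maximalIdeal R ^ N, r • y = 0 := by
    intro y r hr
    have hrT : algebraMap R T r ∈ maximalIdeal T ^ N := by
      rw [AdicCompletion.maximalIdeal_eq_map, ← Ideal.map_pow]
      exact Ideal.mem_map_of_mem _ hr
    obtain ⟨j, hj, b, hb', hjb⟩ := Submodule.mem_sup.1 (hN hrT)
    rw [← hsmul, ← hjb]
    exact hadd j b (hJ j hj) (hb b hb') y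
  haveI := finite_of_artinian_of_killed N hkill
  exact isFiniteLength_iff_isNoetherian_isArtinian.2 ⟨inferInstance, inferInstance⟩

end Groth.LocDual
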